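import Mathlib

/-!
# Dimension of irreducible components under quasi-finite generalizing maps (helper8, S1592)
-/

set_option autoImplicit false
universe u

open Topology TopologicalSpace

namespace Groth.Agent.H8.NodeEtS

section Top

variable {V W : Type*} [TopologicalSpace V] [TopologicalSpace W]

theorem eq_of_specializes_of_isDiscrete {S : Set V} (hS : IsDiscrete S) {x y : V}
    (hx : x ∈ S) (hy : y ∈ S) (h : y ⤳ x) : x = y := by
  haveI := hS.to_subtype
  have h' : (⟨y, hy⟩ : S) ⤳ ⟨x, hx⟩ := (subtype_specializes_iff _ _).mpr h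
  exact (congrArg Subtype.val h'.eq).symm

theorem topologicalKrullDim_eq_krullDim (T : Type*) [TopologicalSpace T] [QuasiSober T]
    [T0Space T] :
    topologicalKrullDim T = @Order.krullDim T (specializationPreorder T) := by
  letI := specializationOrder T
  exact Order.krullDim_eq_of_orderIso (irreducibleSetEquivPoints (α := T))

variable [QuasiSober V] [T0Space V] [QuasiSober W] [T0Space W]

theorem dim_le_of_discrete_fibres (h : V → W) (hc : Continuous h)
    (hdisc : ∀ w, IsDiscrete (h ⁻¹' {w})) (Z' : Set V) (hZ'c : IsClosed Z')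
    (Z₀ : Set W) (hZ₀c : IsClosed Z₀) (hsub : ∀ z ∈ Z', h z ∈ Z₀) :
    topologicalKrullDim Z' ≤ topologicalKrullDim Z₀ := by
  haveI : QuasiSober Z' := hZ'c.isClosedEmbedding_subtypeVal.quasiSober
  haveI : QuasiSober Z₀ := hZ₀c.isClosedEmbedding_subtypeVal.quasiSober
  rw [topologicalKrullDim_eq_krullDim, topologicalKrullDim_eq_krullDim]
  let φ : Z' → Z₀ := fun z => ⟨h z.1, hsub z.1 z.2⟩
  letI : Preorder Z' := specializationPreorder Z'
  letI : Preorder Z₀ := specializationPreorder Z₀
  refine Order.krullDim_le_of_strictMono φ ?_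
  intro a b hab
  have hab1 : b ⤳ a := hab.le
  have hle : (b : V) ⤳ (a : V) := (subtype_specializes_iff _ _).mp hab1
  have hle' : h b ⤳ h a := hle.map hc
  have h1 : φ b ⤳ φ a := (subtype_specializes_iff _ _).mpr hle'
  refine lt_of_le_not_ge h1 ?_
  intro h2
  have h2' : h a ⤳ h b := (subtype_specializes_iff (φ a) (φ b)).mp h2
  have heq' : h a.1 = h b.1 := (h2'.antisymm hle').eq
  have := eq_of_specializes_of_isDiscrete (hdisc (h a.1)) (x := a.1) (y := b.1) rfl heq'.symm hle
  have hba : a ⤳ b := by rw [Subtype.ext this]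
  exact hab.not_ge hba

theorem one_le_dim (Z' : Set V) (hZ'c : IsClosed Z') (η z : V) (hη : η ∈ Z') (hz : z ∈ Z')
    (hspec : η ⤳ z) (hne : η ≠ z) : 1 ≤ topologicalKrullDim Z' := by
  haveI : QuasiSober Z' := hZ'c.isClosedEmbedding_subtypeVal.quasiSober
  rw [topologicalKrullDim_eq_krullDim]
  letI : Preorder Z' := specializationPreorder Z'
  rw [Order.one_le_krullDim_iff]
  refine ⟨⟨z, hz⟩, ⟨η, hη⟩, lt_of_le_not_ge ((subtype_specializes_iff _ _).mpr hspec) ?_⟩
  intro h2
  have h2' : z ⤳ η := (subtype_specializes_iff (⟨z, hz⟩ : Z') ⟨η, hη⟩).mp h2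
  exact hne (hspec.antisymm h2').eq

/-- Irreducible components have dimension one upstairs if they do downstairs. -/
theorem dim_components_eq_one (h : V → W) (hc : Continuous h) (hgen : GeneralizingMap h)
    (hdisc : ∀ w, IsDiscrete (h ⁻¹' {w}))
    (hclosed : ∀ v, IsClosed ({v} : Set V) → IsClosed ({h v} : Set W))
    (hJ : ∀ Z : Set V, IsClosed Z → Z.Nonempty → ∃ z ∈ Z, IsClosed ({z} : Set V))
    (hW : ∀ Z ∈ irreducibleComponents W, topologicalKrullDim Z = 1) :
    ∀ Z' ∈ irreducibleComponents V, topologicalKrullDim Z' = 1 := by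
  intro Z' hZ'
  have hZ'c : IsClosed Z' := isClosed_of_mem_irreducibleComponents Z' hZ'
  have hZ'i : IsIrreducible Z' := hZ'.1
  obtain ⟨η, hη⟩ := QuasiSober.sober hZ'i hZ'c
  -- hη : IsGenericPoint η Z' i.e. closure {η} = Z'
  have hηmem : η ∈ Z' := hη.mem
  have hspecη : ∀ z ∈ Z', η ⤳ z := fun z hz => hη.specializes hz
  -- the component of W containing h η
  set Z₀ := irreducibleComponent (h η) with hZ₀
  have hZ₀mem : Z₀ ∈ irreducibleComponents W := irreducibleComponent_mem_irreducibleComponents _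
  have hZ₀c : IsClosed Z₀ := isClosed_of_mem_irreducibleComponents Z₀ hZ₀mem
  have hsub : ∀ z ∈ Z', h z ∈ Z₀ := by
    intro z hz
    have h1 : h η ⤳ h z := (hspecη z hz).map hc
    exact h1.mem_closed hZ₀c mem_irreducibleComponent
  refine le_antisymm ?_ ?_
  · rw [← hW Z₀ hZ₀mem]
    exact dim_le_of_discrete_fibres h hc hdisc Z' hZ'c Z₀ hZ₀c hsub
  · obtain ⟨z, hz, hzc⟩ := hJ Z' hZ'c hZ'i.nonempty
    by_cases hne : η = z
    · exfalso
      subst hne
      -- η is closed; h η is closed and generic in Z₀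
      have hcl : IsClosed ({h η} : Set W) := hclosed η hzc
      obtain ⟨ξ, hξ⟩ := QuasiSober.sober hZ₀mem.1 hZ₀c
      have h1 : ξ ⤳ h η := hξ.specializes mem_irreducibleComponent
      obtain ⟨ξ', hξ'1, hξ'2⟩ := hgen h1
      -- ξ' ⤳ η, h ξ' = ξ
      have hmax : Z' = closure {ξ'} := by
        have hsub' : Z' ⊆ closure {ξ'} := by
          rw [← hη.def]
          exact closure_minimal (Set.singleton_subset_iff.mpr hξ'1.mem_closure) isClosed_closure
        exact hsub'.antisymm (hZ'.2 isIrreducible_singleton.closure hsub')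
      have hξ'η : ξ' = η := by
        have hg2 : IsGenericPoint ξ' Z' := hmax.symm
        exact hg2.eq hη
      have hξeq : ξ = h η := by rw [← hξ'2, hξ'η]
      have hZ₀single : Z₀ = {h η} := by
        rw [← hξ.def, hξeq, hcl.closure_eq]
      have hdim := hW Z₀ hZ₀mem
      have hle : topologicalKrullDim Z₀ ≤ 0 := by
        haveI : Subsingleton Z₀ := by
          rw [hZ₀single]
          infer_instance
        haveI : DiscreteTopology Z₀ := inferInstance
        exact topologicalKrullDim_zero_of_discreteTopology Z₀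
      rw [hdim] at hle
      exact absurd hle (by decide)
    · exact one_le_dim Z' hZ'c η z hηmem hz (hspecη z hz) hne

end Top

end Groth.Agent.H8.NodeEtS
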