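import Mathlib
import Groth.Prelude.Def_CurvBase
import Groth.Agent.S9232
import Groth.Agent.Lib.Helper8.NodeCpl.Approx

/-!
# Ordinary double points under étale local homomorphisms (helper8, S6552)

`A → B` flat unramified local homomorphism of Noetherian local `K`-algebras, `K` algebraically
closed: `A` is an ordinary double point over `K` iff `B` is.
-/

set_option autoImplicit false
universe u

namespace Groth.Agent.H8.NodeEt

open IsLocalRing

section PS

variable (K : Type u) [Field K]

/-- if the class of `g` in `K[[x,y]]/(xy)` is a unit then `g` has nonzero constant coefficient -/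
theorem constantCoeff_ne_zero_of_isUnit_mk (g : MvPowerSeries (Fin 2) K)
    (h : IsUnit (Ideal.Quotient.mk (Ideal.span
      {(MvPowerSeries.X 0 * MvPowerSeries.X 1 : MvPowerSeries (Fin 2) K)}) g)) :
    MvPowerSeries.constantCoeff g ≠ 0 := by
  obtain ⟨w, hw⟩ := h.exists_right_inv
  obtain ⟨w, rfl⟩ := Ideal.Quotient.mk_surjective w
  rw [← map_mul, ← map_one (Ideal.Quotient.mk _), Ideal.Quotient.eq, Ideal.mem_span_singleton] at hw
  obtain ⟨t, ht⟩ := hw
  intro h0
  have := congrArg (MvPowerSeries.constantCoeff (σ := Fin 2) (R := K)) ht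
  simp [h0] at this

end PS

section Res

variable (K : Type u) [Field K] (A : Type u) [CommRing A] [Algebra K A] [IsLocalRing A]

/-- The residue field of an ordinary double point over `K` is `K`. -/
theorem exists_sub_mem_of_odp (h : Curv2.IsOrdDoublePt K A) (a : A) :
    ∃ c : K, a - algebraMap K A c ∈ maximalIdeal A := by
  obtain ⟨e, he⟩ := h
  obtain ⟨f, hf⟩ := Ideal.Quotient.mk_surjective
    (e (algebraMap A (AdicCompletion (maximalIdeal A) A) a))
  refine ⟨MvPowerSeries.constantCoeff f, ?_⟩
  rw [IsLocalRing.mem_maximalIdeal, mem_nonunits_iff]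
  intro hu
  have h1 : IsUnit (e (algebraMap A (AdicCompletion (maximalIdeal A) A)
      (a - algebraMap K A (MvPowerSeries.constantCoeff f)))) :=
    (hu.map (algebraMap A (AdicCompletion (maximalIdeal A) A))).map e
  rw [map_sub, map_sub, he, ← hf, ← map_sub] at h1
  have := constantCoeff_ne_zero_of_isUnit_mk K _ h1
  simp at this

theorem residue_surjective_of_odp (h : Curv2.IsOrdDoublePt K A) :
    Function.Surjective ((IsLocalRing.residue A).comp (algebraMap K A)) := by
  intro r
  obtain ⟨a, rfl⟩ := IsLocalRing.residue_surjective r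
  obtain ⟨c, hc⟩ := exists_sub_mem_of_odp K A h a
  refine ⟨c, ?_⟩
  rw [RingHom.comp_apply]
  symm
  rw [← sub_eq_zero, ← map_sub, IsLocalRing.residue_eq_zero_iff]
  exact hc

end Res

section Main

variable (K : Type u) [Field K] (A B : Type u) [CommRing A] [CommRing B]
  [IsLocalRing A] [IsLocalRing B] [IsNoetherianRing A] [IsNoetherianRing B]
  [Algebra K A] [Algebra K B] [Algebra A B] [IsScalarTower K A B]
  [IsLocalHom (algebraMap A B)] [Module.Flat A B]

/-- transfer of ordinary double points along an isomorphism of completions -/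
theorem odp_iff_of_bijective
    (hm : Ideal.map (algebraMap A B) (maximalIdeal A) = maximalIdeal B)
    (hk : Function.Bijective (IsLocalRing.ResidueField.map (algebraMap A B))) :
    Curv2.IsOrdDoublePt K A ↔ Curv2.IsOrdDoublePt K B := by
  have hψ : (Groth.Agent.H8.NodeCpl.θ A B).comp
      (algebraMap A (AdicCompletion (maximalIdeal A) A)) =
      (algebraMap B (AdicCompletion (maximalIdeal B) B)).comp (algebraMap A B) := by
    refine RingHom.ext fun a => ?_
    exact Groth.Agent.H8.NodeCpl.θ_of A B a
  have hbij := Groth.Agent.S9232.result A B hm hk (Groth.Agent.H8.NodeCpl.θ A B) hψ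
  let E : AdicCompletion (maximalIdeal A) A ≃+* AdicCompletion (maximalIdeal B) B :=
    RingEquiv.ofBijective _ hbij
  have hE : ∀ a : A, E (algebraMap A (AdicCompletion (maximalIdeal A) A) a) =
      algebraMap B (AdicCompletion (maximalIdeal B) B) (algebraMap A B a) := fun a =>
    Groth.Agent.H8.NodeCpl.θ_of A B a
  constructor
  · rintro ⟨e, he⟩
    refine ⟨E.symm.trans e, fun c => ?_⟩
    rw [IsScalarTower.algebraMap_apply K A B, ← hE, RingEquiv.trans_apply,
      RingEquiv.symm_apply_apply, he]
  · rintro ⟨e, he⟩
    refine ⟨E.trans e, fun c => ?_⟩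
    rw [RingEquiv.trans_apply, hE, ← IsScalarTower.algebraMap_apply K A B, he]

variable [IsAlgClosed K] [Algebra.FormallyUnramified A B] [Algebra.EssFiniteType A B]

theorem odp_iff_of_unramified :
    Curv2.IsOrdDoublePt K A ↔ Curv2.IsOrdDoublePt K B := by
  have hm : Ideal.map (algebraMap A B) (maximalIdeal A) = maximalIdeal B :=
    Algebra.FormallyUnramified.map_maximalIdeal
  have hinj : Function.Injective (IsLocalRing.ResidueField.map (algebraMap A B)) :=
    RingHom.injective _
  have hcomp : (IsLocalRing.ResidueField.map (algebraMap A B)).comp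
      ((IsLocalRing.residue A).comp (algebraMap K A)) =
      (IsLocalRing.residue B).comp (algebraMap K B) := by
    ext c
    simp only [RingHom.comp_apply]
    rw [IsLocalRing.ResidueField.map_residue, ← IsScalarTower.algebraMap_apply K A B]
  constructor
  · intro h
    refine (odp_iff_of_bijective K A B hm ⟨hinj, ?_⟩).mp h
    -- the residue field of `A` is algebraically closed and `κ(B)/κ(A)` is finite
    have hs := residue_surjective_of_odp K A h
    have hb : Function.Bijective ((IsLocalRing.residue A).comp (algebraMap K A)) :=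
      ⟨RingHom.injective _, hs⟩
    haveI : IsAlgClosed (ResidueField A) :=
      IsAlgClosed.of_ringEquiv K (ResidueField A) (RingEquiv.ofBijective _ hb)
    haveI : Algebra.IsIntegral (ResidueField A) (ResidueField B) := Algebra.IsIntegral.of_finite _ _
    exact (IsAlgClosed.algebraMap_bijective_of_isIntegral
      (k := ResidueField A) (K := ResidueField B)).2
  · intro h
    refine (odp_iff_of_bijective K A B hm ⟨hinj, ?_⟩).mpr h
    have hs := residue_surjective_of_odp K B h
    rw [← hcomp, RingHom.coe_comp] at hs
    exact Function.Surjective.of_comp hs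

end Main

end Groth.Agent.H8.NodeEt
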