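import Mathlib
import Groth.Prelude.Def_CurvBase
import Groth.Agent.Lib.Helper8.NodeEt.Alg

/-!
# Nodes under étale morphisms (helper8, S6552)
-/

set_option autoImplicit false
universe u

open CategoryTheory CategoryTheory.Limits AlgebraicGeometry

namespace Groth.Agent.H8.NodeEt

theorem lqf_of_etale {X Y : Scheme.{u}} (π : Y ⟶ X) [Etale π] : LocallyQuasiFinite π := by
  rw [HasRingHomProperty.iff_appLE (P := @LocallyQuasiFinite)]
  intro U V e
  have h := Etale.etale_appLE π U.2 V.2 e
  algebraize [(π.appLE U V e).hom]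
  show RingHom.QuasiFinite (π.appLE U V e).hom
  rw [← RingHom.algebraMap_toAlgebra (π.appLE U V e).hom, RingHom.quasiFinite_algebraMap]
  infer_instance

/-- Over an algebraically closed field, ordinary double points correspond under étale maps. -/
theorem odp_stalk_iff {K : Type u} [Field K] [IsAlgClosed K] {X' Y' : Scheme.{u}}
    (sX : X' ⟶ Spec (CommRingCat.of K)) (sY : Y' ⟶ Spec (CommRingCat.of K))
    [LocallyOfFiniteType sX] (p : Y' ⟶ X') [Etale p] (h : p ≫ sX = sY) (y : Y') :
    @Curv2.IsOrdDoublePt K _ (X'.presheaf.stalk (p y)) _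
      (@Curv2.stalkAlgebra K _ X' ⟨sX⟩ (p y)) _ ↔
    @Curv2.IsOrdDoublePt K _ (Y'.presheaf.stalk y) _
      (@Curv2.stalkAlgebra K _ Y' ⟨sY⟩ y) _ := by
  subst h
  haveI : IsLocallyNoetherian X' := LocallyOfFiniteType.isLocallyNoetherian sX
  haveI : LocallyOfFiniteType p := inferInstance
  haveI : IsLocallyNoetherian Y' := LocallyOfFiniteType.isLocallyNoetherian p
  letI aA : Algebra K (X'.presheaf.stalk (p y)) := @Curv2.stalkAlgebra K _ X' ⟨sX⟩ (p y)
  letI aB : Algebra K (Y'.presheaf.stalk y) := @Curv2.stalkAlgebra K _ Y' ⟨p ≫ sX⟩ y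
  letI aAB : Algebra (X'.presheaf.stalk (p y)) (Y'.presheaf.stalk y) :=
    (p.stalkMap y).hom.toAlgebra
  haveI : IsScalarTower K (X'.presheaf.stalk (p y)) (Y'.presheaf.stalk y) := by
    refine IsScalarTower.of_algebraMap_eq (fun c => ?_)
    change (Y'.presheaf.germ ⊤ y trivial).hom ((p ≫ sX).appTop.hom
        ((Scheme.ΓSpecIso (CommRingCat.of K)).inv.hom c)) =
      (p.stalkMap y).hom ((X'.presheaf.germ ⊤ (p y) trivial).hom (sX.appTop.hom
        ((Scheme.ΓSpecIso (CommRingCat.of K)).inv.hom c)))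
    rw [Scheme.Hom.comp_appTop]
    have := Scheme.Hom.germ_stalkMap_apply p ⊤ y trivial (sX.appTop.hom
        ((Scheme.ΓSpecIso (CommRingCat.of K)).inv.hom c))
    exact this.symm
  haveI : IsLocalHom (algebraMap (X'.presheaf.stalk (p y)) (Y'.presheaf.stalk y)) :=
    inferInstanceAs (IsLocalHom (p.stalkMap y).hom)
  haveI : Module.Flat (X'.presheaf.stalk (p y)) (Y'.presheaf.stalk y) := Flat.stalkMap p y
  haveI : Algebra.FormallyUnramified (X'.presheaf.stalk (p y)) (Y'.presheaf.stalk y) := by
    rw [← RingHom.formallyUnramified_algebraMap, RingHom.algebraMap_toAlgebra]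
    exact FormallyUnramified.stalkMap p y
  haveI : Algebra.EssFiniteType (X'.presheaf.stalk (p y)) (Y'.presheaf.stalk y) := by
    rw [← RingHom.essFiniteType_algebraMap, RingHom.algebraMap_toAlgebra]
    exact LocallyOfFiniteType.stalkMap p y
  exact odp_iff_of_unramified K (X'.presheaf.stalk (p y)) (Y'.presheaf.stalk y)

section Main

variable (k : Type u) [Field k] (X : Scheme.{u}) [X.Over (Spec (CommRingCat.of k))]
  {Y : Scheme.{u}} (π : Y ⟶ X)

/-- the base change of `π` to the algebraic closure -/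
noncomputable def piK :
    pullback (π ≫ (X ↘ Spec (CommRingCat.of k)))
      (Spec.map (CommRingCat.ofHom (algebraMap k (AlgebraicClosure k)))) ⟶
    pullback (X ↘ Spec (CommRingCat.of k))
      (Spec.map (CommRingCat.ofHom (algebraMap k (AlgebraicClosure k)))) :=
  pullback.map (π ≫ (X ↘ Spec (CommRingCat.of k))) _ (X ↘ Spec (CommRingCat.of k)) _ π (𝟙 _) (𝟙 _)
    (by simp) (by simp)

theorem piK_snd : piK k X π ≫ pullback.snd (X ↘ Spec (CommRingCat.of k))
      (Spec.map (CommRingCat.ofHom (algebraMap k (AlgebraicClosure k)))) =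
    pullback.snd (π ≫ (X ↘ Spec (CommRingCat.of k)))
      (Spec.map (CommRingCat.ofHom (algebraMap k (AlgebraicClosure k)))) :=
  (pullback.lift_snd _ _ _).trans (Category.comp_id _)

theorem piK_fst : piK k X π ≫ pullback.fst (X ↘ Spec (CommRingCat.of k))
      (Spec.map (CommRingCat.ofHom (algebraMap k (AlgebraicClosure k)))) =
    pullback.fst (π ≫ (X ↘ Spec (CommRingCat.of k)))
      (Spec.map (CommRingCat.ofHom (algebraMap k (AlgebraicClosure k)))) ≫ π :=
  pullback.lift_fst _ _ _

theorem isPullback_piK : IsPullback (piK k X π)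
    (pullback.fst (π ≫ (X ↘ Spec (CommRingCat.of k)))
      (Spec.map (CommRingCat.ofHom (algebraMap k (AlgebraicClosure k)))))
    (pullback.fst (X ↘ Spec (CommRingCat.of k))
      (Spec.map (CommRingCat.ofHom (algebraMap k (AlgebraicClosure k))))) π := by
  refine IsPullback.of_right ?_ (piK_fst k X π) (IsPullback.of_hasPullback _ _).flip
  rw [piK_snd]
  exact (IsPullback.of_hasPullback _ _).flip

variable [LocallyOfFiniteType (X ↘ Spec (CommRingCat.of k))] [Etale π]

theorem isNode_iff_of_etale (y : Y) :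
    Curv2.IsNode k X (π y) ↔ @Curv2.IsNode k _ Y ⟨π ≫ (X ↘ Spec (CommRingCat.of k))⟩ y := by
  letI instY : Y.Over (Spec (CommRingCat.of k)) := ⟨π ≫ (X ↘ Spec (CommRingCat.of k))⟩
  haveI : Etale (piK k X π) :=
    MorphismProperty.of_isPullback (P := @Etale) (isPullback_piK k X π).flip inferInstance
  haveI : LocallyOfFiniteType (pullback.snd (X ↘ Spec (CommRingCat.of k))
      (Spec.map (CommRingCat.ofHom (algebraMap k (AlgebraicClosure k))))) :=
    MorphismProperty.pullback_snd _ _ inferInstance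
  constructor
  · rintro ⟨hcl, xb, hxb, hodp⟩
    refine ⟨?_, ?_⟩
    · have hF : IsClosed (π ⁻¹' {π y}) := hcl.preimage π.continuous
      haveI := lqf_of_etale π
      have hD : _root_.IsDiscrete (π ⁻¹' {π y}) :=
        Scheme.Hom.isDiscrete_preimage_singleton π (π y)
      haveI := hD.to_subtype
      have hy : y ∈ π ⁻¹' {π y} := rfl
      have := hF.isClosedEmbedding_subtypeVal.isClosedMap _
        (isClosed_discrete ({⟨y, hy⟩} : Set (π ⁻¹' {π y})))
      rwa [Set.image_singleton] at this
    · obtain ⟨yb, hyb1, hyb2⟩ := Scheme.exists_preimage_of_isPullback (isPullback_piK k X π) xb y hxb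
      subst hyb1
      exact ⟨yb, hyb2, (odp_stalk_iff _ _ (piK k X π) (piK_snd k X π) yb).mp hodp⟩
  · rintro ⟨hcl, yb, hyb, hodp⟩
    refine ⟨?_, piK k X π yb, ?_, (odp_stalk_iff _ _ (piK k X π) (piK_snd k X π) yb).mpr hodp⟩
    · haveI : JacobsonSpace X :=
        LocallyOfFiniteType.jacobsonSpace (X ↘ Spec (CommRingCat.of k))
      exact Scheme.Hom.closePoints_subset_preimage_closedPoints π hcl
    · have h1 := congrArg (fun f => f yb) (piK_fst k X π)
      simp only [Scheme.Hom.comp_apply] at h1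
      rw [h1]
      exact congrArg π hyb

end Main

end Groth.Agent.H8.NodeEt
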