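import Mathlib
import Groth.Prelude.Def_CurvBase
import Groth.Agent.S9232
import Groth.Agent.Lib.Helper8.NodeCpl.Approx
import Groth.Agent.Lib.Helper8.NodeEt.Alg

/-!
# Ordinary double points under semilinear étale local homomorphisms (helper8, S1586)

`σ : K₁ ≃+* K₂` fields, `A` a `K₁`-algebra, `B` a `K₂`-algebra, `A → B` a flat unramified local
homomorphism of Noetherian local rings, semilinear w.r.t. `σ`.
-/

set_option autoImplicit false
universe u

namespace Groth.Agent.H8.NodeEtS

open IsLocalRing

section PS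

variable {K₁ K₂ : Type u} [Field K₁] [Field K₂] (σ : K₁ ≃+* K₂)

/-- the ring isomorphism of power series rings induced by `σ` -/
noncomputable def psEquiv : MvPowerSeries (Fin 2) K₁ ≃+* MvPowerSeries (Fin 2) K₂ :=
  RingEquiv.ofRingHom (MvPowerSeries.map (σ := Fin 2) (σ : K₁ →+* K₂))
    (MvPowerSeries.map (σ := Fin 2) (σ.symm : K₂ →+* K₁))
    (by rw [← MvPowerSeries.map_comp]; simp [MvPowerSeries.map_id])
    (by rw [← MvPowerSeries.map_comp]; simp [MvPowerSeries.map_id])

/-- the ring isomorphism `K₁[[x,y]]/(xy) ≃ K₂[[x,y]]/(xy)` induced by `σ` -/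
noncomputable def quotEquiv :
    (MvPowerSeries (Fin 2) K₁ ⧸ Ideal.span
      {(MvPowerSeries.X 0 * MvPowerSeries.X 1 : MvPowerSeries (Fin 2) K₁)}) ≃+*
    (MvPowerSeries (Fin 2) K₂ ⧸ Ideal.span
      {(MvPowerSeries.X 0 * MvPowerSeries.X 1 : MvPowerSeries (Fin 2) K₂)}) :=
  Ideal.quotientEquiv _ _ (psEquiv σ) (by
    rw [Ideal.map_span, Set.image_singleton]
    congr 2
    simp [psEquiv])

theorem quotEquiv_mk_C (c : K₁) :
    quotEquiv σ (Ideal.Quotient.mk _ (MvPowerSeries.C c)) =
      Ideal.Quotient.mk _ (MvPowerSeries.C (σ c)) := by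
  simp [quotEquiv, psEquiv]

end PS

section Main

variable {K₁ K₂ : Type u} [Field K₁] [Field K₂] (σ : K₁ ≃+* K₂)
  (A B : Type u) [CommRing A] [CommRing B]
  [IsLocalRing A] [IsLocalRing B] [IsNoetherianRing A] [IsNoetherianRing B]
  [Algebra K₁ A] [Algebra K₂ B] [Algebra A B]
  [IsLocalHom (algebraMap A B)] [Module.Flat A B]

/-- transfer of ordinary double points along an isomorphism of completions, semilinear version -/
theorem odp_iff_of_bijective
    (hσ : ∀ c : K₁, algebraMap A B (algebraMap K₁ A c) = algebraMap K₂ B (σ c))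
    (hm : Ideal.map (algebraMap A B) (maximalIdeal A) = maximalIdeal B)
    (hk : Function.Bijective (IsLocalRing.ResidueField.map (algebraMap A B))) :
    Curv2.IsOrdDoublePt K₁ A ↔ Curv2.IsOrdDoublePt K₂ B := by
  have hψ : (Groth.Agent.H8.NodeCpl.θ A B).comp
      (algebraMap A (AdicCompletion (maximalIdeal A) A)) =
      (algebraMap B (AdicCompletion (maximalIdeal B) B)).comp (algebraMap A B) := by
    refine RingHom.ext fun a => ?_
    exact Groth.Agent.H8.NodeCpl.θ_of A B a
  have hbij := Groth.Agent.S9232.result A B hm hk (Groth.Agent.H8.NodeCpl.θ A B) hψ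
  let E : AdicCompletion (maximalIdeal A) A ≃+* AdicCompletion (maximalIdeal B) B :=
    RingEquiv.ofBijective _ hbij
  have hE : ∀ a : A, E (algebraMap A (AdicCompletion (maximalIdeal A) A) a) =
      algebraMap B (AdicCompletion (maximalIdeal B) B) (algebraMap A B a) := fun a =>
    Groth.Agent.H8.NodeCpl.θ_of A B a
  constructor
  · rintro ⟨e, he⟩
    refine ⟨(E.symm.trans e).trans (quotEquiv σ), fun d => ?_⟩
    obtain ⟨c, rfl⟩ := σ.surjective d
    rw [← hσ, ← hE, RingEquiv.trans_apply, RingEquiv.trans_apply,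
      RingEquiv.symm_apply_apply, he, quotEquiv_mk_C]
  · rintro ⟨e, he⟩
    refine ⟨(E.trans e).trans (quotEquiv σ.symm), fun c => ?_⟩
    rw [RingEquiv.trans_apply, RingEquiv.trans_apply, hE, hσ, he, quotEquiv_mk_C,
      RingEquiv.symm_apply_apply]

variable [IsAlgClosed K₁] [Algebra.FormallyUnramified A B] [Algebra.EssFiniteType A B]

theorem odp_iff_of_unramified
    (hσ : ∀ c : K₁, algebraMap A B (algebraMap K₁ A c) = algebraMap K₂ B (σ c)) :
    Curv2.IsOrdDoublePt K₁ A ↔ Curv2.IsOrdDoublePt K₂ B := by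
  have hm : Ideal.map (algebraMap A B) (maximalIdeal A) = maximalIdeal B :=
    Algebra.FormallyUnramified.map_maximalIdeal
  have hinj : Function.Injective (IsLocalRing.ResidueField.map (algebraMap A B)) :=
    RingHom.injective _
  have hcomp : (IsLocalRing.ResidueField.map (algebraMap A B)).comp
      ((IsLocalRing.residue A).comp (algebraMap K₁ A)) =
      ((IsLocalRing.residue B).comp (algebraMap K₂ B)).comp (σ : K₁ →+* K₂) := by
    ext c
    simp only [RingHom.comp_apply]
    rw [IsLocalRing.ResidueField.map_residue, hσ]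
    rfl
  constructor
  · intro h
    refine (odp_iff_of_bijective σ A B hσ hm ⟨hinj, ?_⟩).mp h
    have hs := Groth.Agent.H8.NodeEt.residue_surjective_of_odp K₁ A h
    have hb : Function.Bijective ((IsLocalRing.residue A).comp (algebraMap K₁ A)) :=
      ⟨RingHom.injective _, hs⟩
    haveI : IsAlgClosed (ResidueField A) :=
      IsAlgClosed.of_ringEquiv K₁ (ResidueField A) (RingEquiv.ofBijective _ hb)
    haveI : Algebra.IsIntegral (ResidueField A) (ResidueField B) := Algebra.IsIntegral.of_finite _ _
    exact (IsAlgClosed.algebraMap_bijective_of_isIntegral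
      (k := ResidueField A) (K := ResidueField B)).2
  · intro h
    refine (odp_iff_of_bijective σ A B hσ hm ⟨hinj, ?_⟩).mpr h
    have hs := Groth.Agent.H8.NodeEt.residue_surjective_of_odp K₂ B h
    have hs2 : Function.Surjective
        (((IsLocalRing.residue B).comp (algebraMap K₂ B)).comp (σ : K₁ →+* K₂)) := by
      rw [RingHom.coe_comp]
      exact hs.comp σ.surjective
    rw [← hcomp, RingHom.coe_comp] at hs2
    exact Function.Surjective.of_comp hs2

end Main

end Groth.Agent.H8.NodeEtS
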