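import Mathlib
import Groth.Prelude.Def_CurvBase
import Groth.Agent.Lib.Helper8.NodeEt.AlgS

/-!
# Ordinary double points under semilinear étale morphisms (helper8, S1586)
-/

set_option autoImplicit false
universe u

open CategoryTheory CategoryTheory.Limits AlgebraicGeometry

namespace Groth.Agent.H8.NodeEtS

/-- Ordinary double points correspond under étale maps which are semilinear w.r.t. an isomorphism
of algebraically closed base fields. -/
theorem odp_stalk_iff {K₁ K₂ : Type u} [Field K₁] [Field K₂] [IsAlgClosed K₁] (σ : K₁ ≃+* K₂)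
    {X' Y' : Scheme.{u}}
    (sX : X' ⟶ Spec (CommRingCat.of K₁)) (sY : Y' ⟶ Spec (CommRingCat.of K₂))
    [LocallyOfFiniteType sX] (p : Y' ⟶ X') [Etale p]
    (h : p ≫ sX = sY ≫ Spec.map (CommRingCat.ofHom (σ : K₁ →+* K₂))) (y : Y') :
    @Curv2.IsOrdDoublePt K₁ _ (X'.presheaf.stalk (p y)) _
      (@Curv2.stalkAlgebra K₁ _ X' ⟨sX⟩ (p y)) _ ↔
    @Curv2.IsOrdDoublePt K₂ _ (Y'.presheaf.stalk y) _
      (@Curv2.stalkAlgebra K₂ _ Y' ⟨sY⟩ y) _ := by
  haveI : IsLocallyNoetherian X' := LocallyOfFiniteType.isLocallyNoetherian sX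
  haveI : LocallyOfFiniteType p := inferInstance
  haveI : IsLocallyNoetherian Y' := LocallyOfFiniteType.isLocallyNoetherian p
  letI aA : Algebra K₁ (X'.presheaf.stalk (p y)) := @Curv2.stalkAlgebra K₁ _ X' ⟨sX⟩ (p y)
  letI aB : Algebra K₂ (Y'.presheaf.stalk y) := @Curv2.stalkAlgebra K₂ _ Y' ⟨sY⟩ y
  letI aAB : Algebra (X'.presheaf.stalk (p y)) (Y'.presheaf.stalk y) :=
    (p.stalkMap y).hom.toAlgebra
  have hσ : ∀ c : K₁, algebraMap (X'.presheaf.stalk (p y)) (Y'.presheaf.stalk y)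
      (algebraMap K₁ (X'.presheaf.stalk (p y)) c) =
      algebraMap K₂ (Y'.presheaf.stalk y) (σ c) := by
    intro c
    change (p.stalkMap y).hom ((X'.presheaf.germ ⊤ (p y) trivial).hom (sX.appTop.hom
        ((Scheme.ΓSpecIso (CommRingCat.of K₁)).inv.hom c))) =
      (Y'.presheaf.germ ⊤ y trivial).hom (sY.appTop.hom
        ((Scheme.ΓSpecIso (CommRingCat.of K₂)).inv.hom (σ c)))
    have h1 := Scheme.Hom.germ_stalkMap_apply p ⊤ y trivial (sX.appTop.hom
        ((Scheme.ΓSpecIso (CommRingCat.of K₁)).inv.hom c))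
    refine h1.trans ?_
    congr 1
    have h2 : sX.appTop ≫ p.appTop = (Spec.map (CommRingCat.ofHom (σ : K₁ →+* K₂))).appTop ≫
        sY.appTop := by
      rw [← Scheme.Hom.comp_appTop, ← Scheme.Hom.comp_appTop, h]
    have h3 := Scheme.ΓSpecIso_inv_naturality (CommRingCat.ofHom (σ : K₁ →+* K₂))
    have h4 := congrArg (fun f => f.hom ((Scheme.ΓSpecIso (CommRingCat.of K₁)).inv.hom c)) h2
    have h5 := congrArg (fun f => f.hom c) h3
    simp only [CommRingCat.hom_comp, RingHom.comp_apply, CommRingCat.hom_ofHom] at h4 h5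
    exact h4.trans (congrArg _ h5.symm)
  haveI : IsLocalHom (algebraMap (X'.presheaf.stalk (p y)) (Y'.presheaf.stalk y)) :=
    inferInstanceAs (IsLocalHom (p.stalkMap y).hom)
  haveI : Module.Flat (X'.presheaf.stalk (p y)) (Y'.presheaf.stalk y) := Flat.stalkMap p y
  haveI : Algebra.FormallyUnramified (X'.presheaf.stalk (p y)) (Y'.presheaf.stalk y) := by
    rw [← RingHom.formallyUnramified_algebraMap, RingHom.algebraMap_toAlgebra]
    exact FormallyUnramified.stalkMap p y
  haveI : Algebra.EssFiniteType (X'.presheaf.stalk (p y)) (Y'.presheaf.stalk y) := by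
    rw [← RingHom.essFiniteType_algebraMap, RingHom.algebraMap_toAlgebra]
    exact LocallyOfFiniteType.stalkMap p y
  exact odp_iff_of_unramified σ (X'.presheaf.stalk (p y)) (Y'.presheaf.stalk y) hσ

end Groth.Agent.H8.NodeEtS
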