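import Mathlib

/-!
# Transitivity of the Galois action on the primes of `A ⊗_k K` over a closed point (helper8, S1586)
-/

set_option autoImplicit false
universe u

open TensorProduct

namespace Groth.Agent.H8.NodeEtS

section

variable (k : Type u) [Field k] (K : Type u) [Field K] [Algebra k K] [IsAlgClosure k K]
  (A : Type u) [CommRing A] [Algebra k A]

/-- A prime of `A ⊗_k K` over a maximal ideal with algebraic residue field is the kernel of a
`K`-algebra homomorphism to `K`. -/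
theorem exists_algHom_ker (P : Ideal (A ⊗[k] K)) [P.IsPrime]
    (m : Ideal A) [m.IsMaximal] (halg : Algebra.IsAlgebraic k (A ⧸ m))
    (hP : P.comap (Algebra.TensorProduct.includeLeftRingHom : A →+* A ⊗[k] K) = m) :
    ∃ ψ : A ⊗[k] K →+* K, (∀ c : K, ψ ((1 : A) ⊗ₜ[k] c) = c) ∧ RingHom.ker ψ = P := by
  letI := Algebra.TensorProduct.rightAlgebra (R := k) (A := A) (B := K)
  haveI : IsAlgClosed K := IsAlgClosure.isAlgClosed k
  haveI : Algebra.IsAlgebraic k K := IsAlgClosure.isAlgebraic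
  -- `L = B / P` is integral over `k`
  have hint : ∀ b : A ⊗[k] K, IsIntegral k (Ideal.Quotient.mk P b) := by
    intro b
    induction b using TensorProduct.induction_on with
    | zero => rw [map_zero]; exact isIntegral_zero
    | add x y hx hy => rw [map_add]; exact hx.add hy
    | tmul a c =>
      have h1 : a ⊗ₜ[k] c = (a ⊗ₜ[k] (1 : K)) * ((1 : A) ⊗ₜ[k] c) := by
        rw [Algebra.TensorProduct.tmul_mul_tmul, mul_one, one_mul]
      rw [h1, map_mul]
      refine IsIntegral.mul ?_ ?_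
      · -- image of `a mod m`
        let f : A ⧸ m →ₐ[k] (A ⊗[k] K) ⧸ P :=
          Ideal.Quotient.liftₐ m ((Ideal.Quotient.mkₐ k P).comp
            (Algebra.TensorProduct.includeLeft : A →ₐ[k] A ⊗[k] K)) (by
            intro x hx
            rw [← hP, Ideal.mem_comap] at hx
            simpa [Ideal.Quotient.eq_zero_iff_mem] using hx)
        have h2 : Ideal.Quotient.mk P (a ⊗ₜ[k] (1 : K)) = f (Ideal.Quotient.mk m a) := rfl
        rw [h2]
        exact (halg.isIntegral.isIntegral (Ideal.Quotient.mk m a)).map f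
      · let g : K →ₐ[k] (A ⊗[k] K) ⧸ P :=
          (Ideal.Quotient.mkₐ k P).comp
            (Algebra.TensorProduct.includeRight : K →ₐ[k] A ⊗[k] K)
        have h2 : Ideal.Quotient.mk P ((1 : A) ⊗ₜ[k] c) = g c := rfl
        rw [h2]
        exact (Algebra.IsIntegral.isIntegral (R := k) c).map g
  haveI : Algebra.IsIntegral k ((A ⊗[k] K) ⧸ P) := ⟨fun x => by
    obtain ⟨b, rfl⟩ := Ideal.Quotient.mk_surjective x
    exact hint b⟩
  haveI : Algebra.IsIntegral K ((A ⊗[k] K) ⧸ P) := Algebra.IsIntegral.tower_top (R := k)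
  have hbij := IsAlgClosed.algebraMap_bijective_of_isIntegral
    (k := K) (K := (A ⊗[k] K) ⧸ P)
  let E : K ≃ₐ[K] (A ⊗[k] K) ⧸ P := AlgEquiv.ofBijective (Algebra.ofId K _) hbij
  refine ⟨((E.symm : (A ⊗[k] K) ⧸ P →ₐ[K] K).comp (Ideal.Quotient.mkₐ K P)).toRingHom, ?_, ?_⟩
  · intro c
    have h1 : ((1 : A) ⊗ₜ[k] c : A ⊗[k] K) = algebraMap K (A ⊗[k] K) c := rfl
    rw [h1]
    exact AlgHom.commutes _ c
  · ext b
    rw [RingHom.mem_ker]
    change E.symm (Ideal.Quotient.mk P b) = 0 ↔ _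
    rw [EmbeddingLike.map_eq_zero_iff, Ideal.Quotient.eq_zero_iff_mem]

theorem ringHom_tmul (ψ : A ⊗[k] K →+* K) (hψ : ∀ c : K, ψ ((1 : A) ⊗ₜ[k] c) = c) (a : A) (c : K) :
    ψ (a ⊗ₜ[k] c) = ψ (a ⊗ₜ[k] (1 : K)) * c := by
  have h1 : a ⊗ₜ[k] c = (a ⊗ₜ[k] (1 : K)) * ((1 : A) ⊗ₜ[k] c) := by
    rw [Algebra.TensorProduct.tmul_mul_tmul, mul_one, one_mul]
  rw [h1, map_mul, hψ]

/-- the `k`-algebra map `A → K` induced by `ψ` -/
noncomputable def iota (ψ : A ⊗[k] K →+* K) (hψ : ∀ c : K, ψ ((1 : A) ⊗ₜ[k] c) = c) : A →ₐ[k] K :=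
  { toRingHom := ψ.comp (Algebra.TensorProduct.includeLeftRingHom : A →+* A ⊗[k] K)
    commutes' := fun r => by
      change ψ ((algebraMap k A r) ⊗ₜ[k] (1 : K)) = algebraMap k K r
      rw [Algebra.algebraMap_eq_smul_one, TensorProduct.smul_tmul, ← Algebra.algebraMap_eq_smul_one,
        hψ] }

theorem iota_apply (ψ : A ⊗[k] K →+* K) (hψ : ∀ c : K, ψ ((1 : A) ⊗ₜ[k] c) = c) (a : A) :
    iota k K A ψ hψ a = ψ (a ⊗ₜ[k] (1 : K)) := rfl

theorem exists_auto (P P₀ : Ideal (A ⊗[k] K)) [P.IsPrime] [P₀.IsPrime]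
    (m : Ideal A) [m.IsMaximal] (halg : Algebra.IsAlgebraic k (A ⧸ m))
    (hP : P.comap (Algebra.TensorProduct.includeLeftRingHom : A →+* A ⊗[k] K) = m)
    (hP₀ : P₀.comap (Algebra.TensorProduct.includeLeftRingHom : A →+* A ⊗[k] K) = m) :
    ∃ σ : K ≃ₐ[k] K,
      P.comap (Algebra.TensorProduct.map (AlgHom.id k A) (σ : K →ₐ[k] K)).toRingHom = P₀ := by
  obtain ⟨ψ, hψ1, hψ2⟩ := exists_algHom_ker k K A P m halg hP
  obtain ⟨ψ₀, hψ₀1, hψ₀2⟩ := exists_algHom_ker k K A P₀ m halg hP₀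
  have hker : ∀ a : A, a ∈ m → iota k K A ψ hψ1 a = 0 := by
    intro a ha
    rw [iota_apply, ← RingHom.mem_ker, hψ2]
    rw [← hP] at ha
    exact ha
  have hker₀ : ∀ a : A, a ∈ m → iota k K A ψ₀ hψ₀1 a = 0 := by
    intro a ha
    rw [iota_apply, ← RingHom.mem_ker, hψ₀2]
    rw [← hP₀] at ha
    exact ha
  letI : Field (A ⧸ m) := Ideal.Quotient.field m
  let j : A ⧸ m →ₐ[k] K := Ideal.Quotient.liftₐ m (iota k K A ψ hψ1) hker
  let j₀ : A ⧸ m →ₐ[k] K := Ideal.Quotient.liftₐ m (iota k K A ψ₀ hψ₀1) hker₀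
  let χ : j₀.fieldRange ≃ₐ[k] j.fieldRange :=
    (AlgEquiv.ofInjectiveField j₀).symm.trans (AlgEquiv.ofInjectiveField j)
  haveI : Normal k K := IsAlgClosure.normal k K
  let σ : K ≃ₐ[k] K := χ.liftNormal K
  have hσ : ∀ a : A, σ (iota k K A ψ₀ hψ₀1 a) = iota k K A ψ hψ1 a := by
    intro a
    have h1 := χ.liftNormal_commutes K (AlgEquiv.ofInjectiveField j₀ (Ideal.Quotient.mk m a))
    have h2 : χ (AlgEquiv.ofInjectiveField j₀ (Ideal.Quotient.mk m a)) =
        AlgEquiv.ofInjectiveField j (Ideal.Quotient.mk m a) := by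
      change (AlgEquiv.ofInjectiveField j) ((AlgEquiv.ofInjectiveField j₀).symm
        ((AlgEquiv.ofInjectiveField j₀) ((Ideal.Quotient.mk m) a))) = _
      rw [AlgEquiv.symm_apply_apply]
    rw [h2] at h1
    exact h1
  have key : ∀ b : A ⊗[k] K,
      ψ ((Algebra.TensorProduct.map (AlgHom.id k A) (σ : K →ₐ[k] K)) b) = σ (ψ₀ b) := by
    intro b
    induction b using TensorProduct.induction_on with
    | zero => simp
    | add x y hx hy => rw [map_add, map_add, map_add, map_add, hx, hy]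
    | tmul a c =>
      rw [Algebra.TensorProduct.map_tmul, ringHom_tmul k K A ψ hψ1, ringHom_tmul k K A ψ₀ hψ₀1,
        map_mul]
      congr 1
      exact (hσ a).symm
  refine ⟨σ, ?_⟩
  ext b
  rw [Ideal.mem_comap, ← hψ2, ← hψ₀2, RingHom.mem_ker, RingHom.mem_ker]
  change ψ ((Algebra.TensorProduct.map (AlgHom.id k A) (σ : K →ₐ[k] K)) b) = 0 ↔ _
  rw [key, EmbeddingLike.map_eq_zero_iff]

end

end Groth.Agent.H8.NodeEtS
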