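import Mathlib
import Groth.Prelude.Def_CurvBase
import Groth.Agent.Lib.Helper8.NodeEt.Geom
import Groth.Agent.Lib.Helper8.NodeEt.GeomS
import Groth.Agent.Lib.Helper8.NodeEt.Trans

/-!
# Every point over a node is an ordinary double point (helper8, S1586)
-/

set_option autoImplicit false
universe u

open CategoryTheory CategoryTheory.Limits AlgebraicGeometry TensorProduct

namespace Groth.Agent.H8.NodeEtS

section SpecLevel

variable (k : Type u) [Field k] (K : Type u) [Field K] [Algebra k K] [IsAlgClosure k K]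
  (A : Type u) [CommRing A] [Algebra k A] [Algebra.FiniteType k A]

/-- structure map `Spec (A ⊗ K) ⟶ Spec K` -/
noncomputable abbrev sR : Spec (CommRingCat.of (A ⊗[k] K)) ⟶ Spec (CommRingCat.of K) :=
  Spec.map (CommRingCat.ofHom (R := K) (S := A ⊗[k] K)
    (RingHomClass.toRingHom (Algebra.TensorProduct.includeRight : K →ₐ[k] A ⊗[k] K)))

/-- projection `Spec (A ⊗ K) ⟶ Spec A` -/
noncomputable abbrev sL : Spec (CommRingCat.of (A ⊗[k] K)) ⟶ Spec (CommRingCat.of A) :=
  Spec.map (CommRingCat.ofHom (Algebra.TensorProduct.includeLeftRingHom : A →+* A ⊗[k] K))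

instance lft_sR : LocallyOfFiniteType (sR k K A) := by
  haveI : LocallyOfFiniteType (Spec.map (CommRingCat.ofHom (algebraMap k A))) := by
    rw [HasRingHomProperty.Spec_iff (P := @LocallyOfFiniteType)]
    exact RingHom.finiteType_algebraMap.mpr inferInstance
  have h := pullbackSpecIso_inv_snd k A K
  change LocallyOfFiniteType (Spec.map (CommRingCat.ofHom (R := K) (S := A ⊗[k] K)
    (RingHomClass.toRingHom (Algebra.TensorProduct.includeRight : K →ₐ[k] A ⊗[k] K))))
  rw [← h]
  infer_instance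

theorem odp_spec (P P₀ : Spec (CommRingCat.of (A ⊗[k] K)))
    (hPP : sL k K A P = sL k K A P₀)
    (hcl : IsClosed ({sL k K A P} : Set (Spec (CommRingCat.of A))))
    (h₀ : @Curv2.IsOrdDoublePt K _ ((Spec (CommRingCat.of (A ⊗[k] K))).presheaf.stalk P₀) _
      (@Curv2.stalkAlgebra K _ _ ⟨sR k K A⟩ P₀) _) :
    @Curv2.IsOrdDoublePt K _ ((Spec (CommRingCat.of (A ⊗[k] K))).presheaf.stalk P) _
      (@Curv2.stalkAlgebra K _ _ ⟨sR k K A⟩ P) _ := by
  haveI : IsAlgClosed K := IsAlgClosure.isAlgClosed k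
  set m := (sL k K A P).asIdeal with hm
  haveI : m.IsMaximal := (PrimeSpectrum.isClosed_singleton_iff_isMaximal _).1 hcl
  have halg : Algebra.IsAlgebraic k (A ⧸ m) := by
    letI : Field (A ⧸ m) := Ideal.Quotient.field m
    haveI : Algebra.FiniteType k (A ⧸ m) := Algebra.FiniteType.quotient k m
    haveI := finite_of_finite_type_of_isJacobsonRing k (A ⧸ m)
    exact Algebra.IsAlgebraic.of_finite k _
  have hP : P.asIdeal.comap (Algebra.TensorProduct.includeLeftRingHom : A →+* A ⊗[k] K) = m := rfl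
  have hP₀ : P₀.asIdeal.comap (Algebra.TensorProduct.includeLeftRingHom : A →+* A ⊗[k] K) = m := by
    rw [hm, hPP]
    rfl
  obtain ⟨σ, hσ⟩ := exists_auto k K A P.asIdeal P₀.asIdeal m halg hP hP₀
  let Sg : A ⊗[k] K ≃ₐ[k] A ⊗[k] K := Algebra.TensorProduct.congr AlgEquiv.refl σ
  let p : Spec (CommRingCat.of (A ⊗[k] K)) ⟶ Spec (CommRingCat.of (A ⊗[k] K)) :=
    Spec.map (CommRingCat.ofHom ((Sg : A ⊗[k] K ≃+* A ⊗[k] K) : A ⊗[k] K →+* A ⊗[k] K))
  have hpP : p P = P₀ := PrimeSpectrum.ext hσ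
  haveI : IsIso (CommRingCat.ofHom ((Sg : A ⊗[k] K ≃+* A ⊗[k] K) : A ⊗[k] K →+* A ⊗[k] K)) :=
    ((Sg : A ⊗[k] K ≃+* A ⊗[k] K).toCommRingCatIso).isIso_hom
  haveI : IsIso p := inferInstance
  have hsemi : p ≫ sR k K A =
      sR k K A ≫ Spec.map (CommRingCat.ofHom (((σ : K ≃+* K)) : K →+* K)) := by
    rw [← Spec.map_comp, ← Spec.map_comp]
    congr 1
  have := odp_stalk_iff (σ : K ≃+* K) (sR k K A) (sR k K A) p hsemi P
  subst hpP
  exact this.mp h₀

theorem odp_pullback (t : Spec (CommRingCat.of A) ⟶ Spec (CommRingCat.of k))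
    (ht : t = Spec.map (CommRingCat.ofHom (algebraMap k A)))
    (yb yb₀ : ↥(pullback t (Spec.map (CommRingCat.ofHom (algebraMap k K)))))
    (hyy : pullback.fst t (Spec.map (CommRingCat.ofHom (algebraMap k K))) yb =
      pullback.fst t (Spec.map (CommRingCat.ofHom (algebraMap k K))) yb₀)
    (hcl : IsClosed ({pullback.fst t (Spec.map (CommRingCat.ofHom (algebraMap k K))) yb} :
      Set (Spec (CommRingCat.of A))))
    (h₀ : @Curv2.IsOrdDoublePt K _
      ((pullback t (Spec.map (CommRingCat.ofHom (algebraMap k K)))).presheaf.stalk yb₀) _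
      (@Curv2.stalkAlgebra K _ _
        ⟨pullback.snd t (Spec.map (CommRingCat.ofHom (algebraMap k K)))⟩ yb₀) _) :
    @Curv2.IsOrdDoublePt K _
      ((pullback t (Spec.map (CommRingCat.ofHom (algebraMap k K)))).presheaf.stalk yb) _
      (@Curv2.stalkAlgebra K _ _
        ⟨pullback.snd t (Spec.map (CommRingCat.ofHom (algebraMap k K)))⟩ yb) _ := by
  subst ht
  haveI : IsAlgClosed K := IsAlgClosure.isAlgClosed k
  haveI : LocallyOfFiniteType (Spec.map (CommRingCat.ofHom (algebraMap k A))) := by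
    rw [HasRingHomProperty.Spec_iff (P := @LocallyOfFiniteType)]
    exact RingHom.finiteType_algebraMap.mpr inferInstance
  have hq : ∀ z, (pullbackSpecIso k A K).inv ((pullbackSpecIso k A K).hom z) = z := fun z => by
    rw [← Scheme.Hom.comp_apply, Iso.hom_inv_id]
    rfl
  have hsnd : (pullbackSpecIso k A K).inv ≫ pullback.snd _ _ = sR k K A :=
    pullbackSpecIso_inv_snd k A K
  have hfst : (pullbackSpecIso k A K).inv ≫ pullback.fst _ _ = sL k K A :=
    pullbackSpecIso_inv_fst k A K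
  have hfst' : ∀ P, pullback.fst (Spec.map (CommRingCat.ofHom (algebraMap k A)))
      (Spec.map (CommRingCat.ofHom (algebraMap k K))) ((pullbackSpecIso k A K).inv P) =
      sL k K A P := fun P => by
    rw [← hfst]
    rfl
  obtain ⟨P, rfl⟩ : ∃ P, (pullbackSpecIso k A K).inv P = yb := ⟨_, hq yb⟩
  obtain ⟨P₀, rfl⟩ : ∃ P, (pullbackSpecIso k A K).inv P = yb₀ := ⟨_, hq yb₀⟩
  have e := Groth.Agent.H8.NodeEt.odp_stalk_iff (pullback.snd _ _) (sR k K A)
    (pullbackSpecIso k A K).inv hsnd P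
  have e₀ := Groth.Agent.H8.NodeEt.odp_stalk_iff (pullback.snd _ _) (sR k K A)
    (pullbackSpecIso k A K).inv hsnd P₀
  rw [hfst', hfst'] at hyy
  rw [hfst'] at hcl
  exact e.mpr (odp_spec k K A P P₀ hyy hcl (e₀.mp h₀))

end SpecLevel

section General

open Groth.Agent.H8.NodeEt

variable (k : Type u) [Field k]

/-- the affine case, for an arbitrary structure morphism `t`. -/
theorem odp_affine (R : CommRingCat.{u}) (t : Spec R ⟶ Spec (CommRingCat.of k))
    [LocallyOfFiniteType t]
    (yb yb₀ : ↥(pullback t (Spec.map (CommRingCat.ofHom (algebraMap k (AlgebraicClosure k))))))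
    (hyy : pullback.fst t (Spec.map (CommRingCat.ofHom (algebraMap k (AlgebraicClosure k)))) yb =
      pullback.fst t (Spec.map (CommRingCat.ofHom (algebraMap k (AlgebraicClosure k)))) yb₀)
    (hcl : IsClosed
      ({pullback.fst t (Spec.map (CommRingCat.ofHom (algebraMap k (AlgebraicClosure k)))) yb} :
      Set (Spec R)))
    (h₀ : @Curv2.IsOrdDoublePt (AlgebraicClosure k) _
      ((pullback t (Spec.map (CommRingCat.ofHom (algebraMap k (AlgebraicClosure k))))).presheaf.stalk
        yb₀) _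
      (@Curv2.stalkAlgebra (AlgebraicClosure k) _ _
        ⟨pullback.snd t (Spec.map (CommRingCat.ofHom (algebraMap k (AlgebraicClosure k))))⟩ yb₀) _) :
    @Curv2.IsOrdDoublePt (AlgebraicClosure k) _
      ((pullback t (Spec.map (CommRingCat.ofHom (algebraMap k (AlgebraicClosure k))))).presheaf.stalk
        yb) _
      (@Curv2.stalkAlgebra (AlgebraicClosure k) _ _
        ⟨pullback.snd t (Spec.map (CommRingCat.ofHom (algebraMap k (AlgebraicClosure k))))⟩ yb) _ := by
  letI : Algebra k R := (Spec.preimage t).hom.toAlgebra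
  have ht : t = Spec.map (CommRingCat.ofHom (algebraMap k R)) := (Spec.map_preimage t).symm
  haveI : Algebra.FiniteType k R := by
    have h1 : LocallyOfFiniteType (Spec.map (Spec.preimage t)) := by
      rw [Spec.map_preimage]
      infer_instance
    rw [HasRingHomProperty.Spec_iff (P := @LocallyOfFiniteType)] at h1
    exact RingHom.finiteType_algebraMap.mp h1
  exact odp_pullback k (AlgebraicClosure k) R t ht yb yb₀ hyy hcl h₀

variable (X : Scheme.{u}) [X.Over (Spec (CommRingCat.of k))]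
  [LocallyOfFiniteType (X ↘ Spec (CommRingCat.of k))]

/-- Every point of the geometric fibre over a node is an ordinary double point. -/
theorem odp_of_isNode (x : X) (hx : Curv2.IsNode k X x)
    (xb : Curv2.bc k X (AlgebraicClosure k))
    (hxb : Curv2.bcFst k X (AlgebraicClosure k) xb = x) :
    @Curv2.IsOrdDoublePt (AlgebraicClosure k) _
      ((Curv2.bc k X (AlgebraicClosure k)).presheaf.stalk xb) _
      (@Curv2.stalkAlgebra (AlgebraicClosure k) _ (Curv2.bc k X (AlgebraicClosure k))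
        ⟨Curv2.bcSnd k X (AlgebraicClosure k)⟩ xb) _ := by
  obtain ⟨hcl, xb₀, hxb₀, h₀⟩ := hx
  obtain ⟨_, ⟨U, hU : IsAffineOpen U, rfl⟩, hxU, -⟩ :=
    X.isBasis_affineOpens.exists_subset_of_mem_open (Set.mem_univ x) isOpen_univ
  obtain ⟨y, hy⟩ : ∃ y, hU.fromSpec y = x := by
    have := hU.range_fromSpec
    have hx' : x ∈ Set.range hU.fromSpec := by rw [this]; exact hxU
    exact hx'
  haveI : LocallyOfFiniteType (pullback.snd (X ↘ Spec (CommRingCat.of k))
      (Spec.map (CommRingCat.ofHom (algebraMap k (AlgebraicClosure k))))) :=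
    MorphismProperty.pullback_snd _ _ inferInstance
  haveI : Etale (piK k X hU.fromSpec) :=
    MorphismProperty.of_isPullback (P := @Etale) (isPullback_piK k X hU.fromSpec).flip inferInstance
  subst hy
  obtain ⟨yb, hyb1, hyb2⟩ :=
    Scheme.exists_preimage_of_isPullback (isPullback_piK k X hU.fromSpec) xb y hxb
  obtain ⟨yb₀, hyb₀1, hyb₀2⟩ :=
    Scheme.exists_preimage_of_isPullback (isPullback_piK k X hU.fromSpec) xb₀ y hxb₀
  subst hyb1
  subst hyb₀1
  have e := Groth.Agent.H8.NodeEt.odp_stalk_iff _ _ (piK k X hU.fromSpec)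
    (piK_snd k X hU.fromSpec) yb
  have e₀ := Groth.Agent.H8.NodeEt.odp_stalk_iff _ _ (piK k X hU.fromSpec)
    (piK_snd k X hU.fromSpec) yb₀
  refine e.mpr ?_
  have h₀' := e₀.mp h₀
  have hcl' : IsClosed ({y} : Set (Spec Γ(X, U))) := by
    have h1 : IsClosed (hU.fromSpec ⁻¹' {hU.fromSpec y}) := hcl.preimage hU.fromSpec.continuous
    have h2 : hU.fromSpec ⁻¹' {hU.fromSpec y} = {y} := by
      ext z
      simp only [Set.mem_preimage, Set.mem_singleton_iff]
      exact ⟨fun h => hU.fromSpec.isOpenEmbedding.injective h, fun h => by rw [h]⟩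
    rwa [h2] at h1
  refine odp_affine k Γ(X, U) (hU.fromSpec ≫ (X ↘ Spec (CommRingCat.of k))) yb yb₀
    (hyb2.trans hyb₀2.symm) ?_ h₀'
  rw [hyb2]
  exact hcl'

end General

end Groth.Agent.H8.NodeEtS
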