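import Mathlib
import Groth.Prelude.Def_CurvBase
import Groth.Agent.Lib.Helper8.NodeEt.AllPts

/-!
# Nodes and finite separable base field extensions (helper8, S6553)
-/

set_option autoImplicit false
universe u

open CategoryTheory CategoryTheory.Limits AlgebraicGeometry TensorProduct

namespace Groth.Agent.H8.NodeEtS

open Groth.Agent.H8.NodeEt

theorem isClosed_singleton_of_etale {X Y : Scheme.{u}} (π : Y ⟶ X) [Etale π] (y : Y)
    (hcl : IsClosed ({π y} : Set X)) : IsClosed ({y} : Set Y) := by
  have hF : IsClosed (π ⁻¹' {π y}) := hcl.preimage π.continuous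
  haveI := lqf_of_etale π
  have hD : _root_.IsDiscrete (π ⁻¹' {π y}) :=
    Scheme.Hom.isDiscrete_preimage_singleton π (π y)
  haveI := hD.to_subtype
  have hy : y ∈ π ⁻¹' {π y} := rfl
  have := hF.isClosedEmbedding_subtypeVal.isClosedMap _
    (isClosed_discrete ({⟨y, hy⟩} : Set (π ⁻¹' {π y})))
  rwa [Set.image_singleton] at this

theorem etale_of_finite_separable (k k' : Type u) [Field k] [Field k'] [Algebra k k']
    [FiniteDimensional k k'] [Algebra.IsSeparable k k'] :
    Etale (Spec.map (CommRingCat.ofHom (algebraMap k k'))) := by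
  rw [HasRingHomProperty.Spec_iff (P := @Etale)]
  haveI : Algebra.FormallyEtale k k' := Algebra.FormallyEtale.of_isSeparable k k'
  haveI : Algebra.FiniteType k k' := inferInstance
  haveI : Algebra.FinitePresentation k k' := Algebra.FinitePresentation.of_finiteType.mp inferInstance
  haveI : Algebra.Etale k k' := ⟨inferInstance, inferInstance⟩
  exact RingHom.etale_algebraMap.mpr inferInstance

section Main

variable (k : Type u) [Field k] (k' : Type u) [Field k'] [Algebra k k']
  [FiniteDimensional k k'] [Algebra.IsSeparable k k']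
  (X : Scheme.{u}) [X.Over (Spec (CommRingCat.of k'))]
  [LocallyOfFiniteType (X ↘ Spec (CommRingCat.of k'))]

/-- `Spec k' ⟶ Spec k` -/
noncomputable abbrev cc : Spec (CommRingCat.of k') ⟶ Spec (CommRingCat.of k) :=
  Spec.map (CommRingCat.ofHom (algebraMap k k'))

/-- `X ⟶ Spec k` -/
noncomputable abbrev sk : X ⟶ Spec (CommRingCat.of k) :=
  (X ↘ Spec (CommRingCat.of k')) ≫ cc k k'

/-- `W = X ×_k k'` -/
noncomputable abbrev WW : Scheme.{u} := pullback (sk k k' X) (cc k k')

/-- the diagonal section -/
noncomputable def Dl : X ⟶ WW k k' X :=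
  pullback.lift (𝟙 X) (X ↘ Spec (CommRingCat.of k')) (by simp)

theorem Dl_fst : Dl k k' X ≫ pullback.fst (sk k k' X) (cc k k') = 𝟙 X :=
  pullback.lift_fst _ _ _

theorem Dl_snd : Dl k k' X ≫ pullback.snd (sk k k' X) (cc k k') = X ↘ Spec (CommRingCat.of k') :=
  pullback.lift_snd _ _ _

theorem etale_Dl : Etale (Dl k k' X) := by
  haveI := etale_of_finite_separable k k'
  haveI : Etale (pullback.fst (sk k k' X) (cc k k')) := inferInstance
  haveI : Etale (Dl k k' X ≫ pullback.fst (sk k k' X) (cc k k')) := by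
    rw [Dl_fst]
    infer_instance
  exact Etale.of_comp (Dl k k' X) (pullback.fst (sk k k' X) (cc k k'))

theorem isNode_W_iff (w : WW k k' X)
    (hcl : IsClosed ({pullback.fst (sk k k' X) (cc k k') w} : Set X)) :
    @Curv2.IsNode k' _ (WW k k' X) ⟨pullback.snd (sk k k' X) (cc k k')⟩ w ↔
    @Curv2.IsNode k _ X ⟨sk k k' X⟩ (pullback.fst (sk k k' X) (cc k k') w) := by
  haveI hcet := etale_of_finite_separable k k'
  haveI : LocallyOfFiniteType (sk k k' X) := inferInstance
  letI instXk : X.Over (Spec (CommRingCat.of k)) := ⟨sk k k' X⟩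
  haveI : LocallyOfFiniteType (X ↘ Spec (CommRingCat.of k)) :=
    inferInstanceAs (LocallyOfFiniteType (sk k k' X))
  letI instW : (WW k k' X).Over (Spec (CommRingCat.of k')) :=
    ⟨pullback.snd (sk k k' X) (cc k k')⟩
  haveI : Etale (pullback.fst (sk k k' X) (cc k k')) := inferInstance
  haveI : Algebra.IsAlgebraic k (AlgebraicClosure k') :=
    Algebra.IsAlgebraic.trans k k' (AlgebraicClosure k')
  haveI : IsAlgClosure k (AlgebraicClosure k') := ⟨inferInstance, inferInstance⟩
  let ρ : AlgebraicClosure k ≃ₐ[k] AlgebraicClosure k' :=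
    IsAlgClosure.equiv k (AlgebraicClosure k) (AlgebraicClosure k')
  let rr : Spec (CommRingCat.of (AlgebraicClosure k')) ⟶ Spec (CommRingCat.of (AlgebraicClosure k)) :=
    Spec.map (CommRingCat.ofHom (((ρ : AlgebraicClosure k ≃+* AlgebraicClosure k')) :
      AlgebraicClosure k →+* AlgebraicClosure k'))
  haveI : IsIso (CommRingCat.ofHom (((ρ : AlgebraicClosure k ≃+* AlgebraicClosure k')) :
      AlgebraicClosure k →+* AlgebraicClosure k')) :=
    ((ρ : AlgebraicClosure k ≃+* AlgebraicClosure k').toCommRingCatIso).isIso_hom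
  haveI : IsIso rr := inferInstance
  have hrr : rr ≫ Spec.map (CommRingCat.ofHom (algebraMap k (AlgebraicClosure k))) =
      Spec.map (CommRingCat.ofHom (algebraMap k' (AlgebraicClosure k'))) ≫ cc k k' := by
    rw [← Spec.map_comp, ← Spec.map_comp]
    congr 1
    ext c
    change ρ (algebraMap k (AlgebraicClosure k) c) =
      algebraMap k' (AlgebraicClosure k') (algebraMap k k' c)
    rw [ρ.commutes, ← IsScalarTower.algebraMap_apply]
  have h1 := (IsPullback.of_hasPullback (pullback.snd (sk k k' X) (cc k k'))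
    (Spec.map (CommRingCat.ofHom (algebraMap k' (AlgebraicClosure k'))))).paste_horiz
    (IsPullback.of_hasPullback (sk k k' X) (cc k k'))
  have h2 : IsPullback (Spec.map (CommRingCat.ofHom (algebraMap k' (AlgebraicClosure k'))) ≫ cc k k')
      rr (𝟙 _) (Spec.map (CommRingCat.ofHom (algebraMap k (AlgebraicClosure k)))) :=
    IsPullback.of_vert_isIso ⟨by rw [Category.comp_id, hrr]⟩
  have hbig := h1.paste_vert h2
  rw [Category.comp_id] at hbig
  have hΨ1 := hbig.isoPullback_hom_fst
  have hΨ2 := hbig.isoPullback_hom_snd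
  haveI : LocallyOfFiniteType (pullback.snd (sk k k' X)
      (Spec.map (CommRingCat.ofHom (algebraMap k (AlgebraicClosure k))))) :=
    MorphismProperty.pullback_snd _ _ inferInstance
  have e := fun wb => odp_stalk_iff (ρ : AlgebraicClosure k ≃+* AlgebraicClosure k')
    (pullback.snd (sk k k' X) (Spec.map (CommRingCat.ofHom (algebraMap k (AlgebraicClosure k)))))
    (pullback.snd (pullback.snd (sk k k' X) (cc k k'))
      (Spec.map (CommRingCat.ofHom (algebraMap k' (AlgebraicClosure k')))))
    hbig.isoPullback.hom hΨ2 wb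
  have hfst : ∀ wb, pullback.fst (sk k k' X)
      (Spec.map (CommRingCat.ofHom (algebraMap k (AlgebraicClosure k)))) (hbig.isoPullback.hom wb) =
      pullback.fst (sk k k' X) (cc k k') (pullback.fst (pullback.snd (sk k k' X) (cc k k'))
        (Spec.map (CommRingCat.ofHom (algebraMap k' (AlgebraicClosure k')))) wb) := by
    intro wb
    have := congrArg (fun f => f wb) hΨ1
    simpa only [Scheme.Hom.comp_apply] using this
  constructor
  · rintro ⟨hclw, wb, hwb, hodp⟩
    refine ⟨hcl, hbig.isoPullback.hom wb, ?_, (e wb).mpr hodp⟩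
    exact (hfst wb).trans (congrArg _ hwb)
  · intro hnode
    obtain ⟨t⟩ : Nonempty (Spec (CommRingCat.of (AlgebraicClosure k'))) := inferInstance
    obtain ⟨wb, hwb, -⟩ := Scheme.Pullback.exists_preimage_pullback
      (f := pullback.snd (sk k k' X) (cc k k'))
      (g := Spec.map (CommRingCat.ofHom (algebraMap k' (AlgebraicClosure k')))) w t
      (Subsingleton.elim _ _)
    refine ⟨isClosed_singleton_of_etale (pullback.fst (sk k k' X) (cc k k')) w hcl, wb, hwb,
      (e wb).mp ?_⟩
    refine odp_of_isNode k X _ hnode (hbig.isoPullback.hom wb) ?_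
    exact (hfst wb).trans (congrArg _ hwb)

theorem isNode_iff_subfield (x : X) (hx : IsClosed ({x} : Set X)) :
    Curv2.IsNode k' X x ↔ @Curv2.IsNode k _ X ⟨sk k k' X⟩ x := by
  haveI := etale_Dl k k' X
  haveI hcet := etale_of_finite_separable k k'
  haveI : LocallyOfFiniteType (sk k k' X) := inferInstance
  letI instW : (WW k k' X).Over (Spec (CommRingCat.of k')) :=
    ⟨pullback.snd (sk k k' X) (cc k k')⟩
  haveI : LocallyOfFiniteType ((WW k k' X) ↘ Spec (CommRingCat.of k')) :=
    inferInstanceAs (LocallyOfFiniteType (pullback.snd (sk k k' X) (cc k k')))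
  have h1 := isNode_iff_of_etale k' (WW k k' X) (Dl k k' X) x
  have hΔ : pullback.fst (sk k k' X) (cc k k') (Dl k k' X x) = x := by
    have := congrArg (fun f => f x) (Dl_fst k k' X)
    simp only [Scheme.Hom.comp_apply] at this
    exact this
  have h2 := isNode_W_iff k k' X (Dl k k' X x) (by rw [hΔ]; exact hx)
  rw [hΔ] at h2
  have hi : (⟨Dl k k' X ≫ ((WW k k' X) ↘ Spec (CommRingCat.of k'))⟩ :
      X.Over (Spec (CommRingCat.of k'))) = ‹X.Over (Spec (CommRingCat.of k'))› := by
    have : Dl k k' X ≫ ((WW k k' X) ↘ Spec (CommRingCat.of k')) =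
        X ↘ Spec (CommRingCat.of k') := Dl_snd k k' X
    rw [this]
    rfl
  rw [hi] at h1
  exact h1.symm.trans h2

end Main

end Groth.Agent.H8.NodeEtS
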