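import Mathlib
import Groth.Prelude.Def_CurvBase
import Groth.Agent.Lib.Helper8.NodeEt.SubF
import Groth.Agent.Lib.Helper8.NodeEt.DimTop

/-!
# At-worst-nodal families and étale maps on the source (helper8, S1592)
-/

set_option autoImplicit false
universe u

open CategoryTheory CategoryTheory.Limits AlgebraicGeometry

namespace Groth.Agent.H8.NodeEtS

open Groth.Agent.H8.NodeEt

section BC

variable {X S T Y : Scheme.{u}} (f : X ⟶ S) (g : Y ⟶ X) (t : T ⟶ S)

/-- the base change of `g` along `t` -/
noncomputable def bcMap : pullback (g ≫ f) t ⟶ pullback f t :=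
  pullback.map (g ≫ f) t f t g (𝟙 _) (𝟙 _) (by simp) (by simp)

theorem bcMap_snd : bcMap f g t ≫ pullback.snd f t = pullback.snd (g ≫ f) t :=
  (pullback.lift_snd _ _ _).trans (Category.comp_id _)

theorem bcMap_fst : bcMap f g t ≫ pullback.fst f t = pullback.fst (g ≫ f) t ≫ g :=
  pullback.lift_fst _ _ _

theorem isPullback_bcMap :
    IsPullback (bcMap f g t) (pullback.fst (g ≫ f) t) (pullback.fst f t) g := by
  refine IsPullback.of_right ?_ (bcMap_fst f g t) (IsPullback.of_hasPullback _ _).flip
  rw [bcMap_snd]
  exact (IsPullback.of_hasPullback _ _).flip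

theorem etale_bcMap [Etale g] : Etale (bcMap f g t) :=
  MorphismProperty.of_isPullback (P := @Etale) (isPullback_bcMap f g t).flip inferInstance

end BC

section Dim

/-- Étale maps preserve "all irreducible components have dimension one" (target locally of finite
type over a field). -/
theorem dim_components_of_etale {V W : Scheme.{u}} (κ : Type u) [Field κ]
    (sW : W ⟶ Spec (CommRingCat.of κ)) [LocallyOfFiniteType sW] (h : V ⟶ W) [Etale h]
    (hW : ∀ Z ∈ irreducibleComponents (W : Type u), topologicalKrullDim Z = 1) :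
    ∀ Z' ∈ irreducibleComponents (V : Type u), topologicalKrullDim Z' = 1 := by
  haveI : JacobsonSpace W := LocallyOfFiniteType.jacobsonSpace sW
  haveI : LocallyOfFiniteType h := inferInstance
  haveI : JacobsonSpace V := LocallyOfFiniteType.jacobsonSpace (h ≫ sW)
  haveI := lqf_of_etale h
  haveI : Flat h := inferInstance
  refine dim_components_eq_one h h.continuous (Flat.generalizingMap h)
    (fun w => Scheme.Hom.isDiscrete_preimage_singleton h w)
    (fun v hv => Scheme.Hom.closePoints_subset_preimage_closedPoints h hv) ?_ hW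
  intro Z hZc hZne
  obtain ⟨z, hz1, hz2⟩ := nonempty_inter_closedPoints hZne hZc.isLocallyClosed
  exact ⟨z, hz1, hz2⟩

end Dim

section AWN

theorem atWorstNodal_of_etale (κ : Type u) [Field κ] (W : Scheme.{u})
    [W.Over (Spec (CommRingCat.of κ))] [LocallyOfFiniteType (W ↘ Spec (CommRingCat.of κ))]
    {V : Scheme.{u}} (h : V ⟶ W) [Etale h] (hW : Curv2.AtWorstNodal κ W) :
    @Curv2.AtWorstNodal κ _ V ⟨h ≫ (W ↘ Spec (CommRingCat.of κ))⟩ := by
  haveI : JacobsonSpace W := LocallyOfFiniteType.jacobsonSpace (W ↘ Spec (CommRingCat.of κ))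
  haveI : LocallyOfFiniteType h := inferInstance
  intro v hv
  have hw : IsClosed ({h v} : Set W) := Scheme.Hom.closePoints_subset_preimage_closedPoints h hv
  rcases hW (h v) hw with ⟨U, hwU, hsm⟩ | hnode
  · refine Or.inl ⟨h ⁻¹ᵁ U, hwU, ?_⟩
    change Smooth ((h ⁻¹ᵁ U).ι ≫ h ≫ (W ↘ Spec (CommRingCat.of κ)))
    rw [← Category.assoc, ← morphismRestrict_ι, Category.assoc]
    haveI : Smooth (h ∣_ U) := inferInstance
    infer_instance
  · exact Or.inr ((isNode_iff_of_etale κ W h v).mp hnode)

end AWN

section Family

theorem nodalFamily_precomp_etale {X Y S : Scheme.{u}} (f : X ⟶ S)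
    (hf : Curv2.IsNodalFamily f) (g : Y ⟶ X) [Etale g] : Curv2.IsNodalFamily (g ≫ f) := by
  obtain ⟨hflat, hlfp, hfib⟩ := hf
  haveI := hflat
  haveI := hlfp
  haveI : Flat g := inferInstance
  haveI : LocallyOfFinitePresentation g := inferInstance
  refine ⟨inferInstance, inferInstance, fun s => ?_⟩
  obtain ⟨hdim, hnod⟩ := hfib s
  haveI := etale_bcMap f g (S.fromSpecResidueField s)
  haveI hlft : LocallyOfFiniteType (pullback.snd f (S.fromSpecResidueField s)) := inferInstance
  constructor
  · exact @dim_components_of_etale (pullback (g ≫ f) (S.fromSpecResidueField s))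
      (pullback f (S.fromSpecResidueField s)) (S.residueField s) _
      (pullback.snd f (S.fromSpecResidueField s)) hlft
      (bcMap f g (S.fromSpecResidueField s)) (etale_bcMap f g (S.fromSpecResidueField s)) hdim
  · have h1 := @atWorstNodal_of_etale (S.residueField s) _
      (pullback f (S.fromSpecResidueField s)) ⟨pullback.snd f (S.fromSpecResidueField s)⟩ hlft _
      (bcMap f g (S.fromSpecResidueField s)) (etale_bcMap f g (S.fromSpecResidueField s)) hnod
    have hinst := congrArg (fun m => (⟨m⟩ : (pullback (g ≫ f) (S.fromSpecResidueField s)).Over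
      (Spec (CommRingCat.of (S.residueField s))))) (bcMap_snd f g (S.fromSpecResidueField s))
    exact Eq.mp (congrArg (fun i => @Curv2.AtWorstNodal (S.residueField s) _
      (pullback (g ≫ f) (S.fromSpecResidueField s)) i) hinst) h1

end Family

end Groth.Agent.H8.NodeEtS
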