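import Mathlib
import Groth.Prelude.Def_CurvBase
import Groth.Agent.Lib.Helper8.NodeEt.Fam

/-!
# At-worst-nodal families and étale maps on the base (helper8, S1595)
-/

set_option autoImplicit false
universe u

open CategoryTheory CategoryTheory.Limits AlgebraicGeometry

namespace Groth.Agent.H8.NodeEtS

open Groth.Agent.H8.NodeEt

section Res

variable {S' S : Scheme.{u}} (e : S' ⟶ S) [Etale e] (s' : S')

/-- residue field extensions of étale morphisms are finite -/
theorem finite_residueField :
    letI : Algebra (S.residueField (e s')) (S'.residueField s') :=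
      (e.residueFieldMap s').hom.toAlgebra
    Module.Finite (S.residueField (e s')) (S'.residueField s') := by
  algebraize [(e.stalkMap s').hom]
  have : IsLocalHom (algebraMap (S.presheaf.stalk (e s')) (S'.presheaf.stalk s')) :=
    inferInstanceAs <| IsLocalHom (e.stalkMap s').hom
  suffices h : Module.Finite
      (IsLocalRing.ResidueField <| S.presheaf.stalk (e s'))
      (IsLocalRing.ResidueField <| S'.presheaf.stalk s') by
    have halg : (e.residueFieldMap s').hom.toAlgebra =
        (inferInstance : Algebra (IsLocalRing.ResidueField <| S.presheaf.stalk (e s'))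
          (IsLocalRing.ResidueField <| S'.presheaf.stalk s')) := by
      refine Algebra.algebra_ext _ _ fun x ↦ ?_
      obtain ⟨x, rfl⟩ := IsLocalRing.residue_surjective x
      rfl
    rw [halg]
    exact h
  have : Algebra.EssFiniteType (S.presheaf.stalk (e s')) (S'.presheaf.stalk s') := by
    rw [← RingHom.essFiniteType_algebraMap, RingHom.algebraMap_toAlgebra]
    exact LocallyOfFiniteType.stalkMap e s'
  have : Algebra.FormallyUnramified (S.presheaf.stalk (e s')) (S'.presheaf.stalk s') := by
    rw [← RingHom.formallyUnramified_algebraMap, RingHom.algebraMap_toAlgebra]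
    exact FormallyUnramified.stalkMap e s'
  infer_instance

theorem etale_SpecMap_residueFieldMap : Etale (Spec.map (e.residueFieldMap s')) := by
  letI : Algebra (S.residueField (e s')) (S'.residueField s') :=
    (e.residueFieldMap s').hom.toAlgebra
  haveI : Module.Finite (S.residueField (e s')) (S'.residueField s') := finite_residueField e s'
  haveI : Algebra.IsSeparable (S.residueField (e s')) (S'.residueField s') := inferInstance
  exact etale_of_finite_separable (S.residueField (e s')) (S'.residueField s')

end Res

section TopClopen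

open Topology in
theorem dim_component_of_clopen_embedding {V W : Type*} [TopologicalSpace V] [TopologicalSpace W]
    (ψ : V → W) (hψ : IsOpenEmbedding ψ) (hcl : IsClosed (Set.range ψ))
    (hV : ∀ Z' ∈ irreducibleComponents V, topologicalKrullDim Z' = 1)
    (Z : Set W) (hZ : Z ∈ irreducibleComponents W) (hne : (Z ∩ Set.range ψ).Nonempty) :
    topologicalKrullDim Z = 1 := by
  have hZi : IsIrreducible Z := hZ.1
  -- `Z ⊆ range ψ`
  have hsub : Z ⊆ Set.range ψ := by
    by_contra hns
    obtain ⟨w, hwZ, hwr⟩ := Set.not_subset.mp hns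
    obtain ⟨w', hw'Z, hw'1, hw'2⟩ := hZi.2 (Set.range ψ) (Set.range ψ)ᶜ hψ.isOpen_range
      hcl.isOpen_compl hne ⟨w, hwZ, hwr⟩
    exact hw'2 hw'1
  have hZ'i : IsIrreducible (ψ ⁻¹' Z) := hZi.preimage hψ hne
  have himg : ψ '' (ψ ⁻¹' Z) = Z := by
    rw [Set.image_preimage_eq_inter_range, Set.inter_eq_left]
    exact hsub
  have hZ'mem : ψ ⁻¹' Z ∈ irreducibleComponents V := by
    refine ⟨hZ'i, fun T hT hsubT => ?_⟩
    have hTi : IsIrreducible (ψ '' T) := hT.image ψ hψ.continuous.continuousOn
    have h1 : Z ⊆ ψ '' T := by
      rw [← himg]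
      exact Set.image_mono hsubT
    have h2 : ψ '' T ⊆ Z := hZ.2 hTi h1
    intro t ht
    exact h2 ⟨t, ht, rfl⟩
  rw [← hV _ hZ'mem]
  symm
  have hemb : IsEmbedding (Z.restrictPreimage ψ) := hψ.isEmbedding.restrictPreimage Z
  have hsurj : Function.Surjective (Z.restrictPreimage ψ) := by
    rintro ⟨z, hz⟩
    obtain ⟨v, rfl⟩ := hsub hz
    exact ⟨⟨v, hz⟩, rfl⟩
  exact IsHomeomorph.topologicalKrullDim_eq _
    (isHomeomorph_iff_isEmbedding_surjective.mpr ⟨hemb, hsurj⟩)

end TopClopen

section FibMap

variable {X S' S : Scheme.{u}} (f : X ⟶ S') (e : S' ⟶ S) (s' : S')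

/-- the point `Spec κ(s') ⟶ e.fiber (e s')` -/
noncomputable def jj : Spec (S'.residueField s') ⟶ pullback e (S.fromSpecResidueField (e s')) :=
  pullback.lift (S'.fromSpecResidueField s') (Spec.map (e.residueFieldMap s'))
    (Scheme.Hom.SpecMap_residueFieldMap_fromSpecResidueField e s').symm

theorem jj_fst : jj e s' ≫ pullback.fst e (S.fromSpecResidueField (e s')) =
    S'.fromSpecResidueField s' := pullback.lift_fst _ _ _

theorem jj_snd : jj e s' ≫ pullback.snd e (S.fromSpecResidueField (e s')) =
    Spec.map (e.residueFieldMap s') := pullback.lift_snd _ _ _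

/-- the fibre of `f` over `s'` maps to the fibre of `f ≫ e` over `e s'` -/
noncomputable def psi : pullback f (S'.fromSpecResidueField s') ⟶
    pullback (f ≫ e) (S.fromSpecResidueField (e s')) :=
  pullback.lift (pullback.fst _ _) (pullback.snd _ _ ≫ Spec.map (e.residueFieldMap s')) (by
    rw [Category.assoc, Scheme.Hom.SpecMap_residueFieldMap_fromSpecResidueField,
      ← Category.assoc, pullback.condition, Category.assoc])

theorem psi_fst : psi f e s' ≫ pullback.fst (f ≫ e) (S.fromSpecResidueField (e s')) =
    pullback.fst f (S'.fromSpecResidueField s') := pullback.lift_fst _ _ _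

theorem psi_snd : psi f e s' ≫ pullback.snd (f ≫ e) (S.fromSpecResidueField (e s')) =
    pullback.snd f (S'.fromSpecResidueField s') ≫ Spec.map (e.residueFieldMap s') :=
  pullback.lift_snd _ _ _

theorem psi_q : psi f e s' ≫ bcMap e f (S.fromSpecResidueField (e s')) =
    pullback.snd f (S'.fromSpecResidueField s') ≫ jj e s' := by
  apply pullback.hom_ext
  · rw [Category.assoc, bcMap_fst, ← Category.assoc, psi_fst, Category.assoc, jj_fst,
      pullback.condition]
  · rw [Category.assoc, bcMap_snd, psi_snd, Category.assoc, jj_snd]

theorem isPullback_psi : IsPullback (psi f e s') (pullback.snd f (S'.fromSpecResidueField s'))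
    (bcMap e f (S.fromSpecResidueField (e s'))) (jj e s') := by
  refine IsPullback.of_right ?_ (psi_q f e s')
    (isPullback_bcMap e f (S.fromSpecResidueField (e s'))).flip
  rw [psi_fst, jj_fst]
  exact IsPullback.of_hasPullback _ _

variable [Etale e]

theorem etale_jj : Etale (jj e s') := by
  haveI : Etale (pullback.snd e (S.fromSpecResidueField (e s'))) := inferInstance
  have h : Etale (jj e s' ≫ pullback.snd e (S.fromSpecResidueField (e s'))) := by
    rw [jj_snd]
    exact etale_SpecMap_residueFieldMap e s'
  exact MorphismProperty.of_postcomp (W := @Etale) (W' := @Etale) (jj e s')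
    (pullback.snd e (S.fromSpecResidueField (e s'))) inferInstance h

theorem mono_jj : Mono (jj e s') := by
  haveI : Mono (jj e s' ≫ pullback.fst e (S.fromSpecResidueField (e s'))) := by
    rw [jj_fst]
    infer_instance
  exact mono_of_mono (jj e s') (pullback.fst e (S.fromSpecResidueField (e s')))

theorem isOpenImmersion_psi : IsOpenImmersion (psi f e s') := by
  haveI := etale_jj e s'
  haveI := mono_jj e s'
  haveI : Etale (psi f e s') :=
    MorphismProperty.of_isPullback (P := @Etale) (isPullback_psi f e s').flip inferInstance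
  haveI : Mono (psi f e s') :=
    MorphismProperty.of_isPullback (P := MorphismProperty.monomorphisms Scheme.{u})
      (isPullback_psi f e s').flip (MorphismProperty.monomorphisms.infer_property _)
  haveI : Flat (psi f e s') := inferInstance
  haveI : LocallyOfFinitePresentation (psi f e s') := inferInstance
  exact IsOpenImmersion.of_flat_of_mono (psi f e s')

omit [Etale e] in
theorem mem_range_psi_iff (y : ↥(pullback (f ≫ e) (S.fromSpecResidueField (e s')))) :
    y ∈ Set.range (psi f e s') ↔
      f (pullback.fst (f ≫ e) (S.fromSpecResidueField (e s')) y) = s' := by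
  have hq : ∀ y, pullback.fst e (S.fromSpecResidueField (e s'))
      (bcMap e f (S.fromSpecResidueField (e s')) y) =
      f (pullback.fst (f ≫ e) (S.fromSpecResidueField (e s')) y) := by
    intro y
    have := congrArg (fun g => g y) (bcMap_fst e f (S.fromSpecResidueField (e s')))
    simpa only [Scheme.Hom.comp_apply] using this
  constructor
  · rintro ⟨x', rfl⟩
    have h1 := congrArg (fun g => g x') (psi_fst f e s')
    simp only [Scheme.Hom.comp_apply] at h1
    rw [h1]
    have h2 := congrArg (fun g => g x') (pullback.condition (f := f)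
      (g := S'.fromSpecResidueField s'))
    simp only [Scheme.Hom.comp_apply] at h2
    rw [h2, Scheme.fromSpecResidueField_apply]
  · intro hy
    have hinj : Function.Injective (pullback.fst e (S.fromSpecResidueField (e s'))) :=
      (e.fiberι (e s')).isEmbedding.injective
    have ht : bcMap e f (S.fromSpecResidueField (e s')) y =
        jj e s' (IsLocalRing.closedPoint (S'.residueField s')) := by
      apply hinj
      rw [hq y, hy]
      have := congrArg (fun g => g (IsLocalRing.closedPoint (S'.residueField s'))) (jj_fst e s')
      simp only [Scheme.Hom.comp_apply] at this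
      rw [this, Scheme.fromSpecResidueField_apply]
    obtain ⟨x', hx'1, -⟩ := Scheme.exists_preimage_of_isPullback (isPullback_psi f e s') y
      (IsLocalRing.closedPoint (S'.residueField s')) ht
    exact ⟨x', hx'1⟩

theorem isClosed_range_psi : IsClosed (Set.range (psi f e s')) := by
  haveI : Etale (pullback.snd e (S.fromSpecResidueField (e s'))) := inferInstance
  haveI := lqf_of_etale (pullback.snd e (S.fromSpecResidueField (e s')))
  have hD := Scheme.Hom.isDiscrete_preimage_singleton
    (pullback.snd e (S.fromSpecResidueField (e s')))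
    (IsLocalRing.closedPoint (S.residueField (e s')))
  have huniv : (pullback.snd e (S.fromSpecResidueField (e s'))) ⁻¹'
      {IsLocalRing.closedPoint (S.residueField (e s'))} = Set.univ := by
    ext z
    simp only [Set.mem_preimage, Set.mem_singleton_iff, Set.mem_univ, iff_true]
    exact Subsingleton.elim _ _
  haveI hD' : DiscreteTopology ↥(pullback e (S.fromSpecResidueField (e s'))) := by
    rw [← isDiscrete_univ_iff]
    convert hD using 1
    exact huniv.symm
  have hcl : IsClosed ({jj e s' (IsLocalRing.closedPoint (S'.residueField s'))} :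
      Set ↥(pullback e (S.fromSpecResidueField (e s')))) := isClosed_discrete _
  have := hcl.preimage (bcMap e f (S.fromSpecResidueField (e s'))).continuous
  convert this using 1
  ext y
  rw [mem_range_psi_iff]
  simp only [Set.mem_preimage, Set.mem_singleton_iff]
  have hinj : Function.Injective (pullback.fst e (S.fromSpecResidueField (e s'))) :=
    (e.fiberι (e s')).isEmbedding.injective
  have hq : pullback.fst e (S.fromSpecResidueField (e s'))
      (bcMap e f (S.fromSpecResidueField (e s')) y) =
      f (pullback.fst (f ≫ e) (S.fromSpecResidueField (e s')) y) := by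
    have := congrArg (fun g => g y) (bcMap_fst e f (S.fromSpecResidueField (e s')))
    simpa only [Scheme.Hom.comp_apply] using this
  have hj : pullback.fst e (S.fromSpecResidueField (e s'))
      (jj e s' (IsLocalRing.closedPoint (S'.residueField s'))) = s' := by
    have := congrArg (fun g => g (IsLocalRing.closedPoint (S'.residueField s'))) (jj_fst e s')
    simp only [Scheme.Hom.comp_apply] at this
    rw [this, Scheme.fromSpecResidueField_apply]
  constructor
  · intro h
    apply hinj
    rw [hq, hj, h]
  · intro h
    rw [← hq, h, hj]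

variable [LocallyOfFinitePresentation f]

theorem awn_at_psi
    (hF' : @Curv2.AtWorstNodal (S'.residueField s') _ (pullback f (S'.fromSpecResidueField s'))
      ⟨pullback.snd f (S'.fromSpecResidueField s')⟩)
    (x' : ↥(pullback f (S'.fromSpecResidueField s')))
    (hcl : IsClosed ({psi f e s' x'} :
      Set ↥(pullback (f ≫ e) (S.fromSpecResidueField (e s'))))) :
    (∃ U : (pullback (f ≫ e) (S.fromSpecResidueField (e s'))).Opens, psi f e s' x' ∈ U ∧
      Smooth (U.ι ≫ pullback.snd (f ≫ e) (S.fromSpecResidueField (e s')))) ∨
    @Curv2.IsNode (S.residueField (e s')) _ (pullback (f ≫ e) (S.fromSpecResidueField (e s')))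
      ⟨pullback.snd (f ≫ e) (S.fromSpecResidueField (e s'))⟩ (psi f e s' x') := by
  haveI := isOpenImmersion_psi f e s'
  haveI hρ := etale_SpecMap_residueFieldMap e s'
  have hx'cl : IsClosed ({x'} : Set ↥(pullback f (S'.fromSpecResidueField s'))) := by
    have h1 := hcl.preimage (psi f e s').continuous
    have h2 : (psi f e s') ⁻¹' {psi f e s' x'} = {x'} := by
      ext z
      simp only [Set.mem_preimage, Set.mem_singleton_iff]
      exact ⟨fun h => (psi f e s').isOpenEmbedding.injective h, fun h => by rw [h]⟩
    rwa [h2] at h1
  rcases hF' x' hx'cl with ⟨U', hxU', hsm⟩ | hnode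
  · refine Or.inl ⟨(psi f e s') ''ᵁ U', ⟨x', hxU', rfl⟩, ?_⟩
    rw [← Scheme.Hom.isoImage_inv_ι, Category.assoc, Category.assoc, psi_snd]
    haveI : Smooth (U'.ι ≫ pullback.snd f (S'.fromSpecResidueField s')) := hsm
    haveI : Smooth (Spec.map (e.residueFieldMap s')) := inferInstance
    rw [← Category.assoc U'.ι]
    infer_instance
  · refine Or.inr ?_
    letI : Algebra (S.residueField (e s')) (S'.residueField s') :=
      (e.residueFieldMap s').hom.toAlgebra
    haveI : Module.Finite (S.residueField (e s')) (S'.residueField s') := finite_residueField e s'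
    haveI : Algebra.IsSeparable (S.residueField (e s')) (S'.residueField s') := inferInstance
    haveI hlft' : LocallyOfFiniteType (pullback.snd f (S'.fromSpecResidueField s')) :=
      inferInstance
    have h1 := (@isNode_iff_subfield (S.residueField (e s')) _ (S'.residueField s') _ _ _ _
      (pullback f (S'.fromSpecResidueField s')) ⟨pullback.snd f (S'.fromSpecResidueField s')⟩
      hlft' x' hx'cl).mp hnode
    haveI hlft : LocallyOfFiniteType (pullback.snd (f ≫ e) (S.fromSpecResidueField (e s'))) :=
      inferInstance
    have h2 := @isNode_iff_of_etale (S.residueField (e s')) _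
      (pullback (f ≫ e) (S.fromSpecResidueField (e s')))
      ⟨pullback.snd (f ≫ e) (S.fromSpecResidueField (e s'))⟩ _ (psi f e s') hlft inferInstance x'
    refine h2.mpr ?_
    have hinst := congrArg (fun m => (⟨m⟩ : (pullback f (S'.fromSpecResidueField s')).Over
      (Spec (CommRingCat.of (S.residueField (e s')))))) (psi_snd f e s')
    exact Eq.mpr (congrArg (fun i => @Curv2.IsNode (S.residueField (e s')) _
      (pullback f (S'.fromSpecResidueField s')) i x') hinst) h1

end FibMap

section Family

variable {X S' S : Scheme.{u}} (e : S' ⟶ S) [Etale e] (f : X ⟶ S')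

omit [Etale e] in
theorem fibre_point_over (s : S) (y : ↥(pullback (f ≫ e) (S.fromSpecResidueField s))) :
    e (f (pullback.fst (f ≫ e) (S.fromSpecResidueField s) y)) = s := by
  have h := congrArg (fun g => g y) (pullback.condition (f := f ≫ e)
    (g := S.fromSpecResidueField s))
  simp only [Scheme.Hom.comp_apply] at h
  rw [h, Scheme.fromSpecResidueField_apply]

theorem aux_postcomp [LocallyOfFinitePresentation f] (s' : S')
    (hdim' : ∀ Z' ∈ irreducibleComponents ↥(pullback f (S'.fromSpecResidueField s')),
      topologicalKrullDim Z' = 1)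
    (hF' : @Curv2.AtWorstNodal (S'.residueField s') _ (pullback f (S'.fromSpecResidueField s'))
      ⟨pullback.snd f (S'.fromSpecResidueField s')⟩) :
    (∀ Z ∈ irreducibleComponents ↥(pullback (f ≫ e) (S.fromSpecResidueField (e s'))),
      (∃ y ∈ Z, f (pullback.fst (f ≫ e) (S.fromSpecResidueField (e s')) y) = s') →
        topologicalKrullDim Z = 1) ∧
    (∀ y : ↥(pullback (f ≫ e) (S.fromSpecResidueField (e s'))),
      f (pullback.fst (f ≫ e) (S.fromSpecResidueField (e s')) y) = s' →
      IsClosed ({y} : Set ↥(pullback (f ≫ e) (S.fromSpecResidueField (e s')))) →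
      (∃ U : (pullback (f ≫ e) (S.fromSpecResidueField (e s'))).Opens, y ∈ U ∧
        Smooth (U.ι ≫ pullback.snd (f ≫ e) (S.fromSpecResidueField (e s')))) ∨
      @Curv2.IsNode (S.residueField (e s')) _ (pullback (f ≫ e) (S.fromSpecResidueField (e s')))
        ⟨pullback.snd (f ≫ e) (S.fromSpecResidueField (e s'))⟩ y) := by
  haveI := isOpenImmersion_psi f e s'
  constructor
  · rintro Z hZ ⟨y, hyZ, hy⟩
    refine dim_component_of_clopen_embedding (psi f e s') (psi f e s').isOpenEmbedding
      (isClosed_range_psi f e s') hdim' Z hZ ⟨y, hyZ, ?_⟩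
    exact (mem_range_psi_iff f e s' y).mpr hy
  · intro y hy hcl
    obtain ⟨x', rfl⟩ := (mem_range_psi_iff f e s' y).mpr hy
    exact awn_at_psi f e s' hF' x' hcl

theorem nodalFamily_postcomp_etale (hf : Curv2.IsNodalFamily f) :
    Curv2.IsNodalFamily (f ≫ e) := by
  obtain ⟨hflat, hlfp, hfib⟩ := hf
  haveI := hflat
  haveI := hlfp
  haveI : Flat e := inferInstance
  haveI : LocallyOfFinitePresentation e := inferInstance
  refine ⟨inferInstance, inferInstance, fun s => ?_⟩
  constructor
  · intro Z hZ
    obtain ⟨y, hyZ⟩ := hZ.1.nonempty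
    obtain ⟨s', hs'⟩ : ∃ s', f (pullback.fst (f ≫ e) (S.fromSpecResidueField s) y) = s' :=
      ⟨_, rfl⟩
    have h : e s' = s := by rw [← hs']; exact fibre_point_over e f s y
    subst h
    exact (aux_postcomp e f s' (hfib s').1 (hfib s').2).1 Z hZ ⟨y, hyZ, hs'⟩
  · intro y hcl
    obtain ⟨s', hs'⟩ : ∃ s', f (pullback.fst (f ≫ e) (S.fromSpecResidueField s) y) = s' :=
      ⟨_, rfl⟩
    have h : e s' = s := by rw [← hs']; exact fibre_point_over e f s y
    subst h
    exact (aux_postcomp e f s' (hfib s').1 (hfib s').2).2 y hs' hcl

end Family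

end Groth.Agent.H8.NodeEtS
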