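import Mathlib
import Groth.Prelude.Def_CurvBase
import Groth.Agent.Lib.Helper8.NodeEt.Fam
import Groth.Agent.Lib.Helper5.EtSrc.Smooth
import Groth.Agent.Lib.Helper5.EtSrc.Easy

/-!
# At-worst-nodal families are étale local on the source (helper8, S1593)
-/

set_option autoImplicit false
universe u

open CategoryTheory CategoryTheory.Limits AlgebraicGeometry Topology TopologicalSpace

namespace Groth.Agent.H8.NodeEtS

open Groth.Agent.H8.NodeEt Groth.Agent.H5.EtSrc

section Top

theorem dim_components_eq_one_of_cover {ι : Type*} {W : Type*} [TopologicalSpace W]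
    [QuasiSober W] [T0Space W]
    (V : ι → Type*) [∀ i, TopologicalSpace (V i)] [∀ i, QuasiSober (V i)] [∀ i, T0Space (V i)]
    (h : ∀ i, V i → W) (hc : ∀ i, Continuous (h i)) (hgen : ∀ i, GeneralizingMap (h i))
    (hdisc : ∀ i w, IsDiscrete ((h i) ⁻¹' {w}))
    (hsurj : ∀ w, ∃ i, ∃ v : V i, h i v = w)
    (hV : ∀ i, ∀ Z' ∈ irreducibleComponents (V i), topologicalKrullDim Z' = 1) :
    ∀ Z ∈ irreducibleComponents W, topologicalKrullDim Z = 1 := by
  intro Z hZ
  have hZc : IsClosed Z := isClosed_of_mem_irreducibleComponents Z hZ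
  have hZi : IsIrreducible Z := hZ.1
  obtain ⟨ζ, hζ⟩ := QuasiSober.sober hZi hZc
  haveI : QuasiSober Z := hZc.isClosedEmbedding_subtypeVal.quasiSober
  refine le_antisymm ?_ ?_
  · rw [topologicalKrullDim_eq_krullDim]
    letI : Preorder Z := specializationPreorder Z
    rw [Order.krullDim_le_one_iff]
    intro z
    by_contra hcon
    rw [not_or, not_isMin_iff, not_isMax_iff] at hcon
    obtain ⟨⟨a, ha⟩, ⟨b, hb⟩⟩ := hcon
    have haz : (z : W) ⤳ (a : W) := (subtype_specializes_iff _ _).mp ha.le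
    have hza : ¬ (a : W) ⤳ (z : W) := fun h' =>
      ha.not_ge ((subtype_specializes_iff a z).mpr h')
    have hbz : (b : W) ⤳ (z : W) := (subtype_specializes_iff _ _).mp hb.le
    have hzb : ¬ (z : W) ⤳ (b : W) := fun h' =>
      hb.not_ge ((subtype_specializes_iff z b).mpr h')
    obtain ⟨i, va, hva⟩ := hsurj a
    obtain ⟨vz, hvz1, hvz2⟩ := hgen i (show (z : W) ⤳ h i va by rw [hva]; exact haz)
    obtain ⟨vb, hvb1, hvb2⟩ := hgen i (show (b : W) ⤳ h i vz by rw [hvz2]; exact hbz)
    set Z'' := irreducibleComponent vb with hZ''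
    have hZ''mem : Z'' ∈ irreducibleComponents (V i) :=
      irreducibleComponent_mem_irreducibleComponents _
    have hZ''c : IsClosed Z'' := isClosed_of_mem_irreducibleComponents Z'' hZ''mem
    have hvbZ : vb ∈ Z'' := mem_irreducibleComponent
    have hvzZ : vz ∈ Z'' := hvb1.mem_closed hZ''c hvbZ
    have hvaZ : va ∈ Z'' := hvz1.mem_closed hZ''c hvzZ
    have hdim := hV i Z'' hZ''mem
    haveI : QuasiSober Z'' := hZ''c.isClosedEmbedding_subtypeVal.quasiSober
    rw [topologicalKrullDim_eq_krullDim] at hdim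
    letI : Preorder Z'' := specializationPreorder Z''
    have hle : Order.krullDim Z'' ≤ 1 := hdim.le
    rw [Order.krullDim_le_one_iff] at hle
    rcases hle ⟨vz, hvzZ⟩ with hmin | hmax
    · have h1 : (⟨va, hvaZ⟩ : Z'') ≤ ⟨vz, hvzZ⟩ := (subtype_specializes_iff _ _).mpr hvz1
      have h2 := hmin h1
      have h3 : va ⤳ vz := (subtype_specializes_iff (⟨va, hvaZ⟩ : Z'') ⟨vz, hvzZ⟩).mp h2
      have h4 := h3.map (hc i)
      rw [hva, hvz2] at h4
      exact hza h4
    · have h1 : (⟨vz, hvzZ⟩ : Z'') ≤ ⟨vb, hvbZ⟩ := (subtype_specializes_iff _ _).mpr hvb1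
      have h2 := hmax h1
      have h3 : vz ⤳ vb := (subtype_specializes_iff (⟨vz, hvzZ⟩ : Z'') ⟨vb, hvbZ⟩).mp h2
      have h4 := h3.map (hc i)
      rw [hvb2, hvz2] at h4
      exact hzb h4
  · obtain ⟨i, v, hv⟩ := hsurj ζ
    set Z' := irreducibleComponent v with hZ'
    have hZ'mem : Z' ∈ irreducibleComponents (V i) :=
      irreducibleComponent_mem_irreducibleComponents _
    have hZ'c : IsClosed Z' := isClosed_of_mem_irreducibleComponents Z' hZ'mem
    obtain ⟨η, hη⟩ := QuasiSober.sober hZ'mem.1 hZ'c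
    have hηv : η ⤳ v := hη.specializes mem_irreducibleComponent
    have h1 : h i η ⤳ ζ := by rw [← hv]; exact hηv.map (hc i)
    have hsubZ : Z ⊆ closure {h i η} := by
      rw [← hζ.def]
      exact closure_minimal (Set.singleton_subset_iff.mpr h1.mem_closure) isClosed_closure
    have hle : closure {h i η} ⊆ Z := hZ.2 isIrreducible_singleton.closure hsubZ
    have hηZ : h i η ∈ Z := hle (subset_closure rfl)
    have hsub : ∀ z ∈ Z', h i z ∈ Z := by
      intro z hz
      have h2 : h i η ⤳ h i z := (hη.specializes hz).map (hc i)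
      exact h2.mem_closed hZc hηZ
    rw [← hV i Z' hZ'mem]
    exact dim_le_of_discrete_fibres (h i) (hc i) (hdisc i) Z' hZ'c Z hZc hsub

end Top

section Sch

theorem dim_components_of_etale_cover {W : Scheme.{u}} {ι : Type*} (V : ι → Scheme.{u})
    (h : ∀ i, V i ⟶ W) [∀ i, Etale (h i)]
    (hsurj : ∀ w : W, ∃ i, ∃ v : V i, h i v = w)
    (hV : ∀ i, ∀ Z' ∈ irreducibleComponents (V i : Type u), topologicalKrullDim Z' = 1) :
    ∀ Z ∈ irreducibleComponents (W : Type u), topologicalKrullDim Z = 1 :=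
  dim_components_eq_one_of_cover (fun i => (V i : Type u)) (fun i => (h i))
    (fun i => (h i).continuous) (fun i => Flat.generalizingMap (h i))
    (fun i w => by
      haveI := lqf_of_etale (h i)
      exact Scheme.Hom.isDiscrete_preimage_singleton (h i) w) hsurj hV

theorem atWorstNodal_of_etale_cover (κ : Type u) [Field κ] (W : Scheme.{u})
    [W.Over (Spec (CommRingCat.of κ))] [LocallyOfFiniteType (W ↘ Spec (CommRingCat.of κ))]
    {ι : Type*} (V : ι → Scheme.{u}) (h : ∀ i, V i ⟶ W) [∀ i, Etale (h i)]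
    (hsurj : ∀ w : W, ∃ i, ∃ v : V i, h i v = w)
    (hV : ∀ i, @Curv2.AtWorstNodal κ _ (V i) ⟨h i ≫ (W ↘ Spec (CommRingCat.of κ))⟩) :
    Curv2.AtWorstNodal κ W := by
  intro x hx
  obtain ⟨i, v, hv⟩ := hsurj x
  have hvc : IsClosed ({v} : Set (V i)) :=
    isClosed_singleton_of_etale (h i) v (by rw [hv]; exact hx)
  rcases hV i v hvc with ⟨U', hvU', hsm⟩ | hnode
  · left
    have hopen : IsOpen ((h i) '' (U' : Set (V i))) := (h i).isOpenMap _ U'.isOpen
    let O : W.Opens := ⟨_, hopen⟩
    have hxO : x ∈ O := ⟨v, hvU', hv⟩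
    refine ⟨O, hxO, ?_⟩
    have hrange : Set.range (U'.ι ≫ h i) ⊆ Set.range O.ι := by
      rintro _ ⟨y, rfl⟩
      rw [Scheme.Opens.range_ι]
      exact ⟨y.1, y.2, rfl⟩
    let q : (U' : Scheme) ⟶ O := IsOpenImmersion.lift O.ι (U'.ι ≫ h i) hrange
    have hq : q ≫ O.ι = U'.ι ≫ h i := IsOpenImmersion.lift_fac _ _ _
    haveI : Etale (q ≫ O.ι) := by rw [hq]; infer_instance
    have hqe : Etale q := MorphismProperty.of_postcomp (W := @Etale) (W' := @Etale) q O.ι
      inferInstance inferInstance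
    have hqs : Surjective q := by
      refine ⟨fun y => ?_⟩
      obtain ⟨v', hv'1, hv'2⟩ := y.2
      refine ⟨⟨v', hv'1⟩, ?_⟩
      apply O.ι.isOpenEmbedding.injective
      rw [← Scheme.Hom.comp_apply, hq]
      exact hv'2
    refine IsEtaleLocalSource.of_comp (P := @Smooth) q _ hqe hqs ?_
    rw [← Category.assoc, hq, Category.assoc]
    exact hsm
  · right
    rw [← hv]
    exact (isNode_iff_of_etale κ W (h i) v).mpr hnode

end Sch

section Family

theorem nodalFamily_of_etale_cover {X S : Scheme.{u}} (f : X ⟶ S) (ι : Type u)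
    (U : ι → Scheme.{u}) (g : ∀ i, U i ⟶ X) [∀ i, Etale (g i)]
    (hsurj : ∀ x : X, ∃ i, x ∈ Set.range (g i).base)
    (h : ∀ i, Curv2.IsNodalFamily (g i ≫ f)) : Curv2.IsNodalFamily f := by
  have hEt : Etale (Sigma.desc g) := IsZariskiLocalAtSource.sigmaDesc (fun i => inferInstance)
  have hSurj : Surjective (Sigma.desc g) := by
    refine Surjective.sigmaDesc_of_union_range_eq_univ ?_
    rw [Set.eq_univ_iff_forall]
    intro x
    obtain ⟨i, hi⟩ := hsurj x
    exact Set.mem_iUnion.mpr ⟨i, hi⟩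
  have hcomp : Sigma.desc g ≫ f = Sigma.desc (fun i => g i ≫ f) := by
    apply Sigma.hom_ext
    intro i
    simp
  have hflat : Flat f := by
    refine IsEtaleLocalSource.of_comp (P := @Flat) (Sigma.desc g) f hEt hSurj ?_
    rw [hcomp]
    exact IsZariskiLocalAtSource.sigmaDesc (fun i => (h i).1)
  have hlfp : LocallyOfFinitePresentation f := by
    refine IsEtaleLocalSource.of_comp (P := @LocallyOfFinitePresentation) (Sigma.desc g) f
      hEt hSurj ?_
    rw [hcomp]
    exact IsZariskiLocalAtSource.sigmaDesc (fun i => (h i).2.1)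
  refine ⟨hflat, hlfp, fun s => ?_⟩
  haveI hlft : LocallyOfFiniteType (pullback.snd f (S.fromSpecResidueField s)) := inferInstance
  haveI : ∀ i, Etale (bcMap f (g i) (S.fromSpecResidueField s)) := fun i =>
    etale_bcMap f (g i) (S.fromSpecResidueField s)
  have hsurj' : ∀ w : ↥(pullback f (S.fromSpecResidueField s)), ∃ i,
      ∃ v : ↥(pullback (g i ≫ f) (S.fromSpecResidueField s)),
        bcMap f (g i) (S.fromSpecResidueField s) v = w := by
    intro w
    obtain ⟨i, u, hu⟩ := hsurj (pullback.fst f (S.fromSpecResidueField s) w)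
    obtain ⟨p, hp1, -⟩ := Scheme.exists_preimage_of_isPullback
      (isPullback_bcMap f (g i) (S.fromSpecResidueField s)) w u hu.symm
    exact ⟨i, p, hp1⟩
  constructor
  · exact @dim_components_of_etale_cover (pullback f (S.fromSpecResidueField s)) ι
      (fun i => pullback (g i ≫ f) (S.fromSpecResidueField s))
      (fun i => bcMap f (g i) (S.fromSpecResidueField s))
      (fun i => etale_bcMap f (g i) (S.fromSpecResidueField s)) hsurj'
      (fun i => ((h i).2.2 s).1)
  · refine @atWorstNodal_of_etale_cover (S.residueField s) _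
      (pullback f (S.fromSpecResidueField s)) ⟨pullback.snd f (S.fromSpecResidueField s)⟩ hlft ι
      (fun i => pullback (g i ≫ f) (S.fromSpecResidueField s))
      (fun i => bcMap f (g i) (S.fromSpecResidueField s))
      (fun i => etale_bcMap f (g i) (S.fromSpecResidueField s)) hsurj' (fun i => ?_)
    have h1 := ((h i).2.2 s).2
    have hinst := congrArg (fun m => (⟨m⟩ : (pullback (g i ≫ f) (S.fromSpecResidueField s)).Over
      (Spec (CommRingCat.of (S.residueField s))))) (bcMap_snd f (g i) (S.fromSpecResidueField s))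
    exact Eq.mp (congrArg (fun j => @Curv2.AtWorstNodal (S.residueField s) _
      (pullback (g i ≫ f) (S.fromSpecResidueField s)) j) hinst.symm) h1

end Family

end Groth.Agent.H8.NodeEtS
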